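import Cfsg.Agent.UGT.I34.WOneC.Cc
import Cfsg.Agent.UGT.I34.Elem
import Cfsg.Agent.UGT.SLCore
import Cfsg.Agent.UGT.TT.Basic

/-!
# I34 [A], world W1: the fields `ExY` and `CcMul`

* `HEps D L` : type `eps` does not occur (section 3): `v ∈ D` commuting with `u` acts on `L u / O(L u)` as an inner
  automorphism or does not centralise the centre;
* `LiftInv κ` : the involutions of `K / Z(K)` lift to involutions of `K`;
* `exY`, `ccMul`.
-/

set_option autoImplicit false

open Cfsg Subgroup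
open Cfsg.Agent.SignalizersComponents Cfsg.Agent.Lib
open Cfsg.Agent.SignalizersComponents.IntrinsicBasic
open Cfsg.Agent.SignalizersComponents.PLayerAut
open Cfsg.Agent.Intrinsic
open Cfsg.Agent.Intrinsic.Basic hiding IsPair PQS Target IsPair.sq IsPair.ne_one IsPair.cj
open Cfsg.Agent.Intrinsic.Cen hiding pair_comm pair_mem_cen exists_pump pump_unique
open Cfsg.Agent.McLLyComp.Act
open Cfsg.Agent.UGT.I34.Pair Cfsg.Agent.UGT.I34.KF Cfsg.Agent.UGT.I34.WOne
open Cfsg.Agent.UGT.I34.KAut Cfsg.Agent.UGT.I34.FixLift Cfsg.Agent.UGT.I34.Elem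
open scoped commutatorElement

namespace Cfsg.Agent.UGT.I34.WOneC.ExY

open Cfsg.Agent.UGT.I34.WOneC.Five Cfsg.Agent.UGT.I34.WOneC.Cc

universe v

variable {G : Type v} [Group G] [Finite G] {κ : Kind.{v}} {τ : Bool} {D : Set G} {L : G → Subgroup G}
  {u v t x s j y : G}

/-- type `eps` does not occur -/
def HEps (D : Set G) (L : G → Subgroup G) : Prop :=
  ∀ u ∈ D, ∀ v ∈ D, v * u = u * v → ∀ hn : v ∈ normalizer (L u : Set G),
    act (L u) ⟨v, hn⟩ ∈ Inn (↥(L u) ⧸ oddCore ↥(L u)) ∨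
      ¬ ∀ i ∈ center (↥(L u) ⧸ oddCore ↥(L u)), act (L u) ⟨v, hn⟩ i = i

/-- the involutions of `K / Z(K)` lift to involutions of `K` -/
def LiftInv (κ : Kind.{v}) : Prop :=
  ∀ (K : Type v) [Group K] [Finite K], κ.P K → ∀ k : K, k * k ∈ center K → k ∉ center K →
    ∃ c ∈ center K, k * c * (k * c) = 1

omit [Finite G] in
theorem ne_of_notMem (hu : IsPair κ u (L u)) (hy : y ∈ L u)
    (hc : (QuotientGroup.mk ⟨y, hy⟩ : ↥(L u) ⧸ oddCore ↥(L u)) ∉ center (↥(L u) ⧸ oddCore ↥(L u))) :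
    y ≠ 1 ∧ y ≠ u := by
  constructor
  · rintro rfl
    exact hc (one_mem _)
  · rintro rfl
    exact hc (TypeEps.mk_mem_center hu)

/-- a lifted involution commuting with `v` and `d` -/
theorem exists_lift_comm {X : Subgroup G} {w v d : G} (hw : w ∈ X) (hww : w * w = 1) (hwv : w * v = v * w)
    (hvv : v * v = 1) (hv : v ∈ normalizer (X : Set G)) (hdd : d * d = 1) (hdv : d * v = v * d) (hf : Fixes d X) :
    ∃ y, ∃ hy : y ∈ X, y * y = 1 ∧ y * v = v * y ∧ y * d = d * y ∧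
      (QuotientGroup.mk ⟨y, hy⟩ : ↥X ⧸ oddCore ↥X) = QuotientGroup.mk ⟨w, hw⟩ := by
  have hwi : w⁻¹ = w := inv_eq_of_mul_eq_one_left hww
  have hnorm : ∀ t ∈ closure ({v, d} : Set G), t ∈ normalizer (X : Set G) ∧ ⁅w, t⁆ ∈ core X := by
    intro t ht
    induction ht using closure_induction with
    | mem t ht =>
      rcases ht with rfl | ht
      · refine ⟨hv, ?_⟩
        rw [commutatorElement_eq_one_iff_mul_comm.mpr hwv]
        exact one_mem _
      · rw [Set.mem_singleton_iff] at ht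
        subst ht
        refine ⟨hf.1, ?_⟩
        have h1 := inv_mem (hf.2 w hw)
        rwa [commutatorElement_inv] at h1
    | one => exact ⟨one_mem _, by rw [commutatorElement_def, mul_one, inv_one, mul_one, mul_inv_cancel]; exact one_mem _⟩
    | mul x y _ _ h1 h2 =>
      refine ⟨mul_mem h1.1 h2.1, ?_⟩
      have h3 : ⁅w, x * y⁆ = ⁅w, x⁆ * (x * ⁅w, y⁆ * x⁻¹) := by
        rw [commutatorElement_def, commutatorElement_def, commutatorElement_def]; group
      rw [h3]
      exact mul_mem h1.2 (conj_mem_core h1.1 h2.2)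
    | inv x _ h1 =>
      refine ⟨inv_mem h1.1, ?_⟩
      have h3 : ⁅w, x⁻¹⁆ = x⁻¹ * ⁅w, x⁆⁻¹ * x⁻¹⁻¹ := by
        rw [commutatorElement_def, commutatorElement_def]; group
      rw [h3]
      exact conj_mem_core (inv_mem h1.1) (inv_mem h1.2)
  obtain ⟨y, h1, h2, h3⟩ := SL.exists_fixed_involution (W := core X) (T := closure ({v, d} : Set G))
    (odd_card_core X) (TT.isPGroup_closure (by
      rintro x (rfl | rfl)
      · exact hvv
      · exact hdd) (by
      rintro x (rfl | rfl) y (rfl | rfl)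
      · rfl
      · exact hdv.symm
      · exact hdv
      · rfl)) hww (fun c hc => conj_mem_core (le_normalizer hw) hc)
    (fun t ht c hc => conj_mem_core (hnorm t ht).1 hc) (fun t ht => by
      have h4 := (hnorm t ht).2
      have h5 : ⁅w, t⁆ = w * (t * w * t⁻¹) := by
        rw [commutatorElement_def, hwi]; group
      rwa [h5] at h4)
  have hyX : y ∈ X := by
    have h4 : y = w⁻¹ * (w * y) := by group
    rw [h4]
    exact mul_mem (inv_mem hw) (core_le X h1)
  refine ⟨y, hyX, h2, (h3 v (subset_closure (by simp))).symm, (h3 d (subset_closure (by simp))).symm, ?_⟩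
  rw [mk_eq_iff]
  have h4 : y⁻¹ * w = (w * y)⁻¹ := by rw [mul_inv_rev, hwi]
  rw [h4]
  exact inv_mem h1

omit [Finite G] in
theorem act_ne_one (hc : C D L u v) (hn : v ∈ normalizer (L u : Set G)) : act (L u) ⟨v, hn⟩ ≠ 1 :=
  fun h => hc.notFix ((act_eq_one_iff hn).mp h)

/-- **`ExY`** -/
theorem exY (h : W1 κ τ D L) (E : KG κ) (he : HEps D L) : Cc.ExY D L := by
  intro u v hc d hdd hdu hdv hfd
  have hu := hc.left
  have hv := hc.right
  have hp := h.pair hu
  have hn : v ∈ normalizer (L u : Set G) := h.norm hu hc.comm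
  obtain ⟨w, hwc, hww, hwf, -⟩ := E.elt hp.kind _ (act_sq (h.sq hv) hn) (act_ne_one hc hn)
    (he u hu v hv hc.comm hn) _ (TypeEps.mk_mem_center hp) (TypeEps.mk_sq hp) (TypeEps.mk_ne_one hp)
  obtain ⟨w, hwX, hwv, hw2, rfl⟩ := exists_lift_two hn (n := 1) (by rw [pow_one, pow_two, h.sq hv]) hwf
    (m := 1) (by rw [pow_one, pow_two, hww])
  rw [pow_one, pow_two] at hw2
  obtain ⟨y, hy, hyy, hyv, hyd, hyw⟩ := exists_lift_comm hwX hw2 hwv (h.sq hv) hn hdd hdv hfd
  obtain ⟨h1, h2⟩ := ne_of_notMem hp hy (by rw [hyw]; exact hwc)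
  exact ⟨y, hy, hyy, h1, h2, hyv, hyd⟩

/-- an element of `D` of type c does not act as an inner automorphism -/
theorem not_inner (h : W1 κ τ D L) (h52 : FxOr D L) (hL : LiftInv κ) (hc : C D L u v)
    (hn : v ∈ normalizer (L u : Set G)) : act (L u) ⟨v, hn⟩ ∉ Inn (↥(L u) ⧸ oddCore ↥(L u)) := by
  rintro ⟨k, hk⟩
  have hu := hc.left
  have hv := hc.right
  have hp := h.pair hu
  have hconj : ∀ {a : ↥(L u) ⧸ oddCore ↥(L u)}, MulAut.conj a = 1 → a ∈ center (↥(L u) ⧸ oddCore ↥(L u)) := by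
    intro a ha
    rw [mem_center_iff]
    intro b
    have h1 : a * b * a⁻¹ = b := by rw [← MulAut.conj_apply, ha]; rfl
    calc b * a = a * b * a⁻¹ * a := by rw [h1]
      _ = a * b := by group
  have hkk : k * k ∈ center (↥(L u) ⧸ oddCore ↥(L u)) := by
    apply hconj
    rw [map_mul, hk]
    exact act_sq (h.sq hv) hn
  have hkc : k ∉ center (↥(L u) ⧸ oddCore ↥(L u)) := by
    intro h1
    apply act_ne_one hc hn
    rw [← hk]
    ext b
    rw [MulAut.conj_apply, ← mem_center_iff.mp h1 b, mul_inv_cancel_right]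
    rfl
  obtain ⟨c, hcc, hc1⟩ := hL _ hp.kind k hkk hkc
  -- `l = k c`
  have hl : act (L u) ⟨v, hn⟩ = MulAut.conj (k * c) := by
    rw [← hk, map_mul]
    have h1 : (MulAut.conj c : MulAut (↥(L u) ⧸ oddCore ↥(L u))) = 1 := by
      ext b
      rw [MulAut.conj_apply, ← mem_center_iff.mp hcc b, mul_inv_cancel_right]
      rfl
    rw [h1, mul_one]
  have hlf : k * c ∈ fixed (act (L u) ⟨v, hn⟩) := by
    rw [mem_fixed, hl, MulAut.conj_apply, mul_inv_cancel_right]
  have hlc : k * c ∉ center (↥(L u) ⧸ oddCore ↥(L u)) := by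
    intro h1
    apply hkc
    have := mul_mem h1 (inv_mem hcc)
    rwa [mul_inv_cancel_right] at this
  obtain ⟨l, hlX, hlv, hl2, hlk⟩ := exists_lift_two hn (n := 1) (by rw [pow_one, pow_two, h.sq hv]) hlf
    (m := 1) (by rw [pow_one, pow_two, hc1])
  rw [pow_one, pow_two] at hl2
  rw [← hlk] at hlc
  obtain ⟨h1, h2⟩ := ne_of_notMem hp hlX hlc
  refine hc.notMem (mem_of_inner h h52 hu hv hc.comm hlX hl2 h1 h2 hlv.symm ?_)
  rw [← act_eq_one_iff (mul_mem (le_normalizer hlX) hn), act_mul (le_normalizer hlX) hn, act_of_mem hlX, hl, ← map_mul,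
    hlk, hc1, map_one]

/-- an automorphism maps a generator of the cyclic centre to itself or its inverse -/
theorem center_or (hF : Facts (↥(L u) ⧸ oddCore ↥(L u)) τ) (φ : MulAut (↥(L u) ⧸ oddCore ↥(L u))) :
    (∀ i ∈ center (↥(L u) ⧸ oddCore ↥(L u)), φ i = i) ∨ ∀ i ∈ center (↥(L u) ⧸ oddCore ↥(L u)), φ i = i⁻¹ := by
  obtain ⟨i, hi, hz⟩ := hF.exists_i
  have hφ : φ i ∈ center (↥(L u) ⧸ oddCore ↥(L u)) := by
    have h1 : i ∈ center (↥(L u) ⧸ oddCore ↥(L u)) := by rw [hz]; exact mem_zpowers i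
    rw [mem_center_iff] at h1 ⊢
    intro g
    have h2 := congrArg φ (h1 (φ.symm g))
    rw [map_mul, map_mul, MulEquiv.apply_symm_apply] at h2
    exact h2
  have hord : orderOf (φ i) = 4 := by rw [← hi]; exact orderOf_injective φ.toMonoidHom φ.injective i
  rw [hz] at hφ ⊢
  have hpow : ∀ {a b : ↥(L u) ⧸ oddCore ↥(L u)}, a = b → ∀ n : ℤ, a ^ n = b ^ n := fun h n => by rw [h]
  classical
  rw [mem_zpowers_iff_mem_range_orderOf, hi] at hφ
  simp only [Finset.mem_image, Finset.mem_range] at hφ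
  obtain ⟨n, hn, hin⟩ := hφ
  have hi4 : i ^ 4 = 1 := by rw [← hi, pow_orderOf_eq_one]
  interval_cases n
  · exfalso
    rw [pow_zero] at hin
    rw [← hin, orderOf_one] at hord
    omega
  · left
    rintro _ ⟨m, rfl⟩
    change φ (i ^ m) = i ^ m
    rw [map_zpow, ← hin, pow_one]
  · exfalso
    have h1 : φ i ^ 2 = 1 := by rw [← hin, ← pow_mul, hi4]
    have h2 := orderOf_dvd_of_pow_eq_one h1
    rw [hord] at h2
    omega
  · right
    have h1 : φ i = i⁻¹ := by
      rw [← hin, eq_inv_iff_mul_eq_one, ← pow_succ, hi4]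
    rintro _ ⟨m, rfl⟩
    change φ (i ^ m) = (i ^ m)⁻¹
    rw [map_zpow, h1, inv_zpow]

/-- **`CcMul`** -/
theorem ccMul (h : W1 κ τ D L) (h52 : FxOr D L) (hL : LiftInv κ) (he : HEps D L) : CcMul D L := by
  intro u v w hv hw hvw hD hcon
  have hu := hv.left
  have hnv : v ∈ normalizer (L u : Set G) := h.norm hu hv.comm
  have hnw : w ∈ normalizer (L u : Set G) := h.norm hu hw.comm
  have hF := h.facts hu
  have inv : ∀ {v : G} (hc : C D L u v) (hn : v ∈ normalizer (L u : Set G)),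
      ∀ i ∈ center (↥(L u) ⧸ oddCore ↥(L u)), act (L u) ⟨v, hn⟩ i = i⁻¹ := by
    intro v hc hn
    rcases center_or hF (act (L u) ⟨v, hn⟩) with h1 | h1
    · exfalso
      rcases he u hu v hc.right hc.comm hn with h2 | h2
      · exact not_inner h h52 hL hc hn h2
      · exact h2 h1
    · exact h1
  have h1 := inv hv hnv
  have h2 := inv hw hnw
  have h3 : ∀ i ∈ center (↥(L u) ⧸ oddCore ↥(L u)), act (L u) ⟨v * w, mul_mem hnv hnw⟩ i = i := by
    intro i hi
    rw [act_mul hnv hnw, MulAut.mul_apply, h2 i hi, map_inv, h1 i hi, inv_inv]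
  rcases he u hu _ hD hcon.comm (mul_mem hnv hnw) with h4 | h4
  · exact not_inner h h52 hL hcon _ h4
  · exact h4 h3

end Cfsg.Agent.UGT.I34.WOneC.ExY
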