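import Cfsg.Agent.UGT.I34.WOneC.Glue
import Cfsg.Agent.UGT.I34.KGOf
import Cfsg.Agent.UGT.I34.ONRec
import Cfsg.Agent.UGT.I34.Two
import Cfsg.Agent.LThreeFour.Exists

/-!
# I34 [A]: world W1a is empty, for the kinds `κ` with `κ.P → FourKind`, `κ.T → ONRec`

`false_of_zero`: the world W1 in a simple group has no pairs of type (0).  What remains to be supplied: `ExY D L`,
`CcMul D L` (helper15).
-/

set_option autoImplicit false

open Cfsg Subgroup
open Cfsg.Agent.SignalizersComponents Cfsg.Agent.Lib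
open Cfsg.Agent.SignalizersComponents.IntrinsicBasic
open Cfsg.Agent.Intrinsic
open Cfsg.Agent.Intrinsic.Basic hiding IsPair PQS Target IsPair.sq IsPair.ne_one IsPair.cj
open Cfsg.Agent.UGT.I34.Pair Cfsg.Agent.UGT.I34.KF Cfsg.Agent.UGT.I34.WOne
open Cfsg.Agent.UGT.Cov (FourKind)
open Cfsg.Agent.UGT.I34.ONRec (ONRec)

namespace Cfsg.Agent.UGT.I34.WOneC.Final

open Cfsg.Agent.UGT.I34.WOneC.Five Cfsg.Agent.UGT.I34.WOneC.Cc Cfsg.Agent.UGT.I34.WOneC.Tg
  Cfsg.Agent.UGT.I34.WOneC.OfWOne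

universe v

variable {κ : Kind.{v}}

theorem card_fourKind {K : Type*} [Group K] (h : FourKind K) : Nat.card K = 80640 := by
  obtain ⟨e⟩ := h.psl
  obtain ⟨A⟩ := LThreeFour.exists_dat Cfsg.Agent.SporadicA.FieldFour.F4.card_eq e
  rw [Subgroup.card_eq_card_quotient_mul_card_subgroup (center K), h.card, A.card]

theorem card_L {X : Type v} [Group X] [Finite X] {z : X} {L : Subgroup X} (h : ONRec X z L) :
    Nat.card L = 80640 := by
  have h1 := ONRec.card_cent h
  have h2 := Subgroup.card_mul_index (L.subgroupOf (centralizer ({z} : Set X)))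
  rw [h.mrec.idx, h1, Nat.card_congr (subgroupOfEquivOfLe h.le).toEquiv] at h2
  omega

theorem core_eq {X : Type v} [Group X] [Finite X] {z : X} {L : Subgroup X}
    (hκ : ∀ {K : Type v} [Group K] [Finite K], κ.P K → FourKind K) (h : ONRec X z L)
    (hp : IsPair κ z L) : Basic.core L = ⊥ := by
  have h1 := card_fourKind (hκ hp.kind)
  have h2 := Subgroup.card_eq_card_quotient_mul_card_subgroup (oddCore ↥L)
  rw [h1, card_L h] at h2
  have h3 : Nat.card (oddCore ↥L) = 1 := by omega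
  have h4 : oddCore ↥L = ⊥ := Subgroup.card_eq_one.mp h3
  rw [Basic.core, h4, Subgroup.map_bot]

/-- the facts on the targets -/
theorem tgtA (hκ : ∀ {K : Type v} [Group K] [Finite K], κ.P K → FourKind K)
    (hT : ∀ (X : Type v) [Group X] [Finite X] (z : X) (L : Subgroup X), κ.T X z L → IsPair κ z L →
      ONRec X z L) (hB : ONRec.BenderSimple.{v}) : TgtA κ where
  tgt := fun X _ _ z L h hp => ⟨ONRec.not_center (hT X z L h hp), fun s hs hs1 =>
    ONRec.one_class (hT X z L h hp) hs hs1⟩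
  core := fun X _ _ z L h hp => core_eq hκ (hT X z L h hp) hp
  odd_aut := fun X _ _ z L h hp β hβ hL =>
    ONRec.odd_aut (ONRec.no_se hB (hT X z L h hp)) (hT X z L h hp) hβ hL
  cent_L := fun X _ _ z L h hp c h1 h2 h3 h4 => ONRec.cent_L (hT X z L h hp) h1 h2 h3 h4
  no_se := fun X _ _ z L h hp => ONRec.no_se hB (hT X z L h hp)

theorem syl (hκ : ∀ {K : Type v} [Group K] [Finite K], κ.P K → FourKind K) : Syl κ :=
  fun K _ _ hK Q β hβ => KGOf.eq_one_of_sylow (hκ hK) Q β hβ

theorem fxOr {G : Type v} [Group G] [Finite G] {τ : Bool} {D : Set G} {L : G → Subgroup G}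
    (h : W1 κ τ D L) : FxOr D L :=
  fun _ hu _ hxx hx1 _ hx hf _ ht htt ht1 htu hxt => Two.fixes_or h hu hxx hx1 hx hf ht htt ht1 htu hxt

/-- **World W1a is empty.** -/
theorem false_of_zero {G : Type v} [Group G] [Finite G] [IsSimpleGroup G]
    (hκ : ∀ {K : Type v} [Group K] [Finite K], κ.P K → FourKind K)
    (hT : ∀ (X : Type v) [Group X] [Finite X] (z : X) (L : Subgroup X), κ.T X z L → IsPair κ z L →
      ONRec X z L)
    (hB : ONRec.BenderSimple.{v}) (FT : Functor.OddSol G) (hAs : WOneA.Asch G) {τ : Bool}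
    {D : Set G} {L : G → Subgroup G} (h : W1 κ τ D L) (hY : ExY D L) (hcc : CcMul D L) {u s : G}
    (hu : u ∈ D) (hs : s ∈ D) (hsu : s ≠ u) (hus : s * u = u * s) (hf : Fixes s (L u)) : False :=
  Glue.false_of_zero FT hAs (tgtA hκ hT hB) (syl hκ) h (fxOr h) hY hcc hu hs hsu hus hf

end Cfsg.Agent.UGT.I34.WOneC.Final
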