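import Cfsg.Agent.UGT.I34.WOneC.Ind

/-!
`D ∩ T` for a Sylow 2-subgroup `T` (5b.3 in a `FrameC`).
-/

set_option autoImplicit false
set_option linter.unusedSectionVars false

namespace Cfsg.Agent.UGT.I34.WOneC

open Subgroup Cfsg
open Cfsg.Agent.SignalizersComponents
open Cfsg.Agent.SignalizersComponents.PLayerAut
open Cfsg.Agent.SignalizersComponents.IntrinsicBasic
open Cfsg.Agent.SignalizersComponents.RelSylow
open Cfsg.Agent.Intrinsic.WOneA (Ce OC mem_Ce mul_self_of_order ne_one_of_order order_two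
  inv_eq_of_order pow_of_order orderOf_cj conj_eq_of_commute commute_of_conj_eq normalizes dihedral
  lcj mem_lcj length_lcj prod_lcj commute_prod lset isMaxP_of_card IsMaxP.card_le card_cj
  IsMaxP.inf_of_normalizes mem_sup_of_normalizes exists_commuting_conj)

namespace FrameC

variable {G : Type*} [Group G] [Finite G] {F : FrameC G}

theorem two_pow_of_mem {P : Subgroup G} (hP : IsPGroup 2 P) {x : G} (hx : x ∈ P) :
    ∃ n : ℕ, x ^ 2 ^ n = 1 := by
  obtain ⟨k, hk⟩ := hP ⟨x, hx⟩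
  exact ⟨k, by simpa using congrArg Subtype.val hk⟩

/-- a 2-subgroup `R` of the big component `M_s(L_u)` has a conjugate centralizing `u` -/
theorem Z.exists_conj_le {u s : G} (h : F.Z u s) {R : Subgroup G} (hR : IsPGroup 2 R)
    (hRM : R ≤ F.cmp s u) : ∃ g ∈ F.cmp s u, cj g R ≤ Ce u := by
  by_cases hbot : Nat.card R = 1
  · refine ⟨1, one_mem _, ?_⟩
    have : R = ⊥ := Subgroup.card_eq_one.mp hbot
    rw [this, cj_def, Subgroup.map_bot]
    exact bot_le
  -- a central involution of `R`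
  have h2 : Fact (Nat.Prime 2) := ⟨Nat.prime_two⟩
  have hnt : Nontrivial R := (Finite.one_lt_card_iff_nontrivial).mp (by
    have := Nat.card_pos (α := R); omega)
  have hcn : Nontrivial (center R) := hR.center_nontrivial
  have hcp : IsPGroup 2 (center R) := hR.to_subgroup _
  obtain ⟨n, hn⟩ := (hcp.nontrivial_iff_card).mp hcn
  have hdvd : 2 ∣ Nat.card (center R) := by
    rw [hn.2]; exact dvd_pow_self 2 hn.1.ne'
  obtain ⟨y, hy⟩ := exists_prime_orderOf_dvd_card' 2 hdvd
  have hy2 : orderOf ((y : R) : G) = 2 := by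
    rw [Subgroup.orderOf_coe, Subgroup.orderOf_coe]; exact hy
  have hyM : ((y : R) : G) ∈ F.cmp s u := hRM y.1.2
  obtain ⟨g, hg, hgy⟩ := F.big u h.left s h.right h.ne h.mem _ hyM hy2
  have hcent : ∀ r ∈ R, Commute r ((y : R) : G) := by
    intro r hr
    have := mem_center_iff.mp y.2 ⟨r, hr⟩
    exact congrArg Subtype.val this
  refine ⟨g⁻¹, inv_mem hg, fun x hx => ?_⟩
  have hxR : g * x * g⁻¹ ∈ R := by
    rw [mem_cj, inv_inv] at hx; exact hx
  rw [mem_Ce]
  have h5 := hcent _ hxR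
  rw [← hgy] at h5
  have h6 : g * (x * u) * g⁻¹ = g * (u * x) * g⁻¹ := by
    calc g * (x * u) * g⁻¹ = (g * x * g⁻¹) * (g * u * g⁻¹) := by group
      _ = (g * u * g⁻¹) * (g * x * g⁻¹) := h5.eq
      _ = g * (u * x) * g⁻¹ := by group
  exact mul_left_cancel (mul_right_cancel h6)

/-- the block structure of `D ∩ T` -/
structure Block (F : FrameC G) (T : Subgroup G) (V : List G) : Prop where
  ind : F.Ind V
  two : 2 ≤ V.length
  max : ∀ J, F.Ind J → J.length ≤ V.length
  pg : IsPGroup 2 T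
  mem : ∀ v ∈ V, v ∈ T
  syl : ∀ v ∈ V, IsMaxP 2 (F.L v) (T ⊓ F.L v)
  sylB : ∀ v ∈ V, ∀ s ∈ V, v ≠ s → IsMaxP 2 (F.cmp s v) (T ⊓ F.cmp s v)
  cenB : ∀ v ∈ V, ∀ s ∈ V, v ≠ s → ∀ a ∈ T, a ∈ F.cmp s v → ∀ v' ∈ V, Commute a v'
  cov : ∀ w ∈ F.D, w ∈ T → ∃ v ∈ V, F.A v w

theorem exists_other_of_two {V : List G} (hnd : V.Nodup) (h2 : 2 ≤ V.length) (v : G) :
    ∃ s ∈ V, s ≠ v := by
  by_contra hcon
  push Not at hcon
  have h3 : ∀ x ∈ V, x = v := hcon
  have h4 : V.length ≤ 1 := by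
    match V, hnd, h3 with
    | [], _, _ => simp
    | [a], _, _ => simp
    | a :: b :: V', hnd, h5 =>
      exfalso
      have e1 := h5 a (by simp)
      have e2 := h5 b (by simp)
      rw [e1, e2] at hnd
      simp at hnd
  omega

theorem exists_block {u s : G} (h : F.Z u s) : ∃ (T : Sylow 2 G) (V : List G),
    Block F (T : Subgroup G) V := by
  have h2 : Fact (Nat.Prime 2) := ⟨Nat.prime_two⟩
  have h0 : F.Ind [u, s] :=
    (Ind.cons (J := [s]) (Ind.cons (J := []) ⟨by simp, List.Pairwise.nil⟩ h.right (by simp)) h.left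
      (by simpa using h))
  obtain ⟨V, hV, hlen, hmax⟩ := F.exists_max [u, s] h0
  have hlen2 : 2 ≤ V.length := by simpa using hlen
  have hWC : closure (lset V) ≤ centralizer (lset V) := by
    rw [closure_le]
    intro i hi
    rw [SetLike.mem_coe, mem_centralizer_iff]
    intro j hj
    exact (hV.comm hj hi).eq
  obtain ⟨S, hS, hWS⟩ := exists_isMaxP (p := 2) hV.closure_pgroup hWC
  obtain ⟨T, hST⟩ := hS.1.exists_le_sylow
  have hmem : ∀ v ∈ V, v ∈ (T : Subgroup G) := fun v hv => hST (hWS (subset_closure hv))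
  have hTC : ∀ a ∈ (T : Subgroup G), (∀ v ∈ V, Commute a v) → a ∈ S := by
    intro a ha hc
    have h3 := hS.2.2 ((T : Subgroup G) ⊓ centralizer (lset V)) (T.2.to_le inf_le_left)
      inf_le_right (le_inf hST hS.2.1)
    refine h3 (mem_inf.mpr ⟨ha, mem_centralizer_iff.mpr fun v hv => ?_⟩)
    exact (hc v hv).eq.symm
  have key1 : ∀ v ∈ V, ∀ a ∈ (T : Subgroup G), a ∈ F.L v → ∀ v' ∈ V, Commute a v' := by
    intro v hv a haT haL v' hv'
    by_cases e : v' = v
    · rw [e]; exact mem_Ce.mp (F.L_le (hV.mem v hv) haL)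
    · exact F.comm_LK T.2 (hV.mem v hv) haL haT (hV.z hv hv' (Ne.symm e)).mem (hmem v' hv')
  have hOn : ∀ x : G, Ce x ≤ normalizer (OC x : Set G) := fun x =>
    le_normalizer.trans (normalizer_le_normalizer_relCore 2 _)
  have hCn : ∀ v ∈ V, centralizer (lset V) ≤ normalizer (F.L v : Set G) := by
    intro v hv c hc
    rw [mem_normalizer_iff_cj, ← F.L_conj v (hV.mem v hv)]
    congr 1
    exact conj_eq_of_commute (mem_centralizer_iff.mp hc v hv).symm
  have hCB : ∀ v ∈ V, ∀ s ∈ V, v ≠ s → centralizer (lset V) ≤ normalizer (F.cmp s v : Set G) := by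
    intro v hv s hs hvs c hc
    have hz := hV.z hv hs hvs
    rw [mem_normalizer_iff_cj]
    have e1 : c * v * c⁻¹ = v := conj_eq_of_commute (mem_centralizer_iff.mp hc v hv).symm
    have e2 : c * s * c⁻¹ = s := conj_eq_of_commute (mem_centralizer_iff.mp hc s hs).symm
    have h3 := F.cmp_conj v hz.left s hz.mem (F.ord s hz.right) c
    rw [e1, e2] at h3
    exact h3.symm
  have hinf : ∀ X : Subgroup G, centralizer (lset V) ≤ normalizer (X : Set G) →
      centralizer (lset V) ≤ normalizer ((X ⊓ centralizer (lset V) : Subgroup G) : Set G) := by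
    intro X hX c hc
    rw [mem_normalizer_iff_cj]
    have hcv := hX hc
    have hcc : c ∈ normalizer ((centralizer (lset V) : Subgroup G) : Set G) := le_normalizer hc
    rw [mem_normalizer_iff_cj] at hcv hcc
    ext x
    rw [mem_cj, mem_inf, mem_inf]
    rw [← mem_cj, ← mem_cj, hcv, hcc]
  -- the Sylow subgroups of `L v`
  have key2 : ∀ v ∈ V, IsMaxP 2 (F.L v) ((T : Subgroup G) ⊓ F.L v) := by
    intro v hv
    have hvD := hV.mem v hv
    have hTS : (T : Subgroup G) ⊓ F.L v = S ⊓ (F.L v ⊓ centralizer (lset V)) := by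
      ext a
      constructor
      · rintro ⟨h3, h4⟩
        have h5 := hTC a h3 (key1 v hv a h3 h4)
        exact ⟨h5, h4, hS.2.1 h5⟩
      · rintro ⟨h3, h4, _⟩
        exact ⟨hST h3, h4⟩
    have hmx := IsMaxP.inf_of_normalizes hS inf_le_right (hinf _ (hCn v hv))
    rw [hTS]
    refine isMaxP_of_card hmx.1 (hmx.2.1.trans inf_le_left) fun R hR hRL => ?_
    have hLn : F.L v ≤ normalizer (OC v : Set G) := (F.L_le hvD).trans (hOn v)
    have hKW : closure (lset V) ≤ F.K v := by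
      rw [closure_le]
      intro v' hv'
      by_cases e : v' = v
      · rw [e]; exact F.self_mem_K hvD
      · exact (hV.z hv hv' (Ne.symm e)).mem
    obtain ⟨y, hy, hyc⟩ := exists_commuting_conj (odd_card_relCore (Ce v)) hR hV.closure_pgroup
      (hRL.trans hLn) ((hKW.trans (F.K_le v)).trans (hOn v))
      (fun r hr w hw => ((F.mem_K hvD).mp (hKW hw)).2 r (hRL hr))
    have hyn : y ∈ normalizer (F.L v : Set G) := by
      refine (sup_le ?_ ?_ : R ⊔ OC v ≤ normalizer (F.L v : Set G)) hy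
      · exact hRL.trans le_normalizer
      · exact (F.L_comp v hvD).relCore_le_normalizer
    rw [← card_cj y R]
    refine IsMaxP.card_le hmx (hR.map _) (le_inf ?_ ?_)
    · have h3 := cj_mono (g := y) hRL
      rwa [mem_normalizer_iff_cj.mp hyn] at h3
    · intro r hr
      rw [mem_centralizer_iff]
      intro v' hv'
      exact (hyc r hr v' (subset_closure hv')).eq.symm
  -- the Sylow subgroups of `M_s(L_v)`
  have key3 : ∀ v ∈ V, ∀ s ∈ V, v ≠ s →
      IsMaxP 2 (F.cmp s v) ((T : Subgroup G) ⊓ F.cmp s v) ∧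
      ∀ a ∈ (T : Subgroup G), a ∈ F.cmp s v → ∀ v' ∈ V, Commute a v' := by
    intro v hv s hs hvs
    have hz := hV.z hv hs hvs
    have hmx := IsMaxP.inf_of_normalizes hS inf_le_right (hinf _ (hCB v hv s hs hvs))
    have hcomp := F.cmp_comp v hz.left s hz.mem (F.ord s hz.right)
    have hmx2 : IsMaxP 2 (F.cmp s v) (S ⊓ (F.cmp s v ⊓ centralizer (lset V))) := by
      refine isMaxP_of_card hmx.1 (hmx.2.1.trans inf_le_left) fun R₀ hR₀ hR₀M => ?_
      obtain ⟨g, hg, hgR⟩ := hz.exists_conj_le hR₀ hR₀M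
      obtain ⟨R, hRe⟩ : ∃ R, R = cj g R₀ := ⟨_, rfl⟩
      rw [← hRe] at hgR
      have hR : IsPGroup 2 R := hRe ▸ hR₀.map _
      have hRM : R ≤ F.cmp s v := by
        rw [hRe]
        have h3 := cj_mono (g := g) hR₀M
        rwa [cj_eq_self_of_mem hg] at h3
      rw [← card_cj g R₀, ← hRe]
      have hRC : R ≤ Ce s := hRM.trans hcomp.le
      have hWR : closure (lset V) ≤ cenMod (Ce s) R := by
        rw [closure_le]
        intro v' hv'
        rw [SetLike.mem_coe, mem_cenMod hRC]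
        have hv's : v' ∈ Ce s := mem_Ce.mpr (hV.comm hv' hs)
        refine ⟨hv's, fun r hr => ?_⟩
        by_cases e1 : v' = s
        · subst e1
          rw [conj_eq_of_commute (mem_Ce.mp (hRC hr)).symm, inv_mul_cancel]
          exact one_mem _
        · by_cases e2 : v' = v
          · subst e2
            rw [conj_eq_of_commute (mem_Ce.mp (hgR hr)).symm, inv_mul_cancel]
            exact one_mem _
          · have h3 := hz.cen (hV.z hv hv' (Ne.symm e2)) (hV.comm hs hv')
            exact ((mem_cenMod hcomp.le).mp h3).2 r (hRM hr)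
      obtain ⟨y, hy, hyc⟩ := exists_commuting_conj (odd_card_relCore (Ce s)) hR hV.closure_pgroup
        (hRC.trans (hOn s)) ((hWR.trans (cenMod_le _ _)).trans (hOn s))
        (fun r hr w hw => ((mem_cenMod hRC).mp (hWR hw)).2 r hr)
      have hyn : y ∈ normalizer (F.cmp s v : Set G) := by
        refine (sup_le ?_ ?_ : R ⊔ OC s ≤ normalizer (F.cmp s v : Set G)) hy
        · exact hRM.trans le_normalizer
        · exact hcomp.relCore_le_normalizer
      rw [← card_cj y R]
      refine IsMaxP.card_le hmx (hR.map _) (le_inf ?_ ?_)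
      · have h3 := cj_mono (g := y) hRM
        rwa [mem_normalizer_iff_cj.mp hyn] at h3
      · intro r hr
        rw [mem_centralizer_iff]
        intro v' hv'
        exact (hyc r hr v' (subset_closure hv')).eq.symm
    have hle : (T : Subgroup G) ⊓ F.cmp s v ≤ S ⊓ (F.cmp s v ⊓ centralizer (lset V)) :=
      hmx2.2.2 _ (T.2.to_le inf_le_left) inf_le_right
        (le_inf (inf_le_left.trans hST) (inf_le_right.trans inf_le_left))
    have heq : (T : Subgroup G) ⊓ F.cmp s v = S ⊓ (F.cmp s v ⊓ centralizer (lset V)) :=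
      le_antisymm hle (le_inf (inf_le_left.trans hST) (inf_le_right.trans inf_le_left))
    refine ⟨heq ▸ hmx2, fun a haT haM v' hv' => ?_⟩
    have h3 := (hle ⟨haT, haM⟩).2.2
    exact (mem_centralizer_iff.mp h3 v' hv').symm
  refine ⟨T, V, hV, hlen2, hmax, T.2, hmem, key2, fun v hv s hs hvs => (key3 v hv s hs hvs).1,
    fun v hv s hs hvs => (key3 v hv s hs hvs).2, fun w hwD hwT => ?_⟩
  -- `w` commutes with `V`
  have hcomm : ∀ v ∈ V, Commute w v := by
    intro v hv
    by_contra hne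
    have hvD := hV.mem v hv
    obtain ⟨b, hbD, hbT, hbw, hbv, -⟩ := F.dd T.2 hwD hvD hwT (hmem v hv) hne
    obtain ⟨s, hsV, hsv⟩ := exists_other_of_two hV.nodup hlen2 v
    have hz := hV.z hv hsV (Ne.symm hsv)
    obtain ⟨hzb, hcmp, -⟩ := hbv.zz T.2 hbT (hmem s hsV) hz
    obtain ⟨-, -, hwM⟩ := hbw.symm.zz T.2 hwT (hmem s hsV) hzb
    rw [hcmp] at hwM
    exact hne ((key3 v hv s hsV (Ne.symm hsv)).2 w hwT hwM v hv)
  by_contra hcon
  push Not at hcon
  have hz : ∀ v ∈ V, F.Z w v := by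
    intro v hv
    rcases F.A_or_Z (hV.mem v hv) hwD (hcomm v hv).symm with h3 | h3
    · exact absurd h3 (hcon v hv)
    · exact h3.symm
  have h3 := hmax (w :: V) (hV.cons hwD hz)
  rw [List.length_cons] at h3
  omega

theorem Block.cj {T : Subgroup G} {V : List G} (h : Block F T V) (g : G) :
    Block F (cj g T) (lcj g V) := by
  have hinf : ∀ X : Subgroup G, IntrinsicBasic.cj g T ⊓ IntrinsicBasic.cj g X =
      IntrinsicBasic.cj g (T ⊓ X) := by
    intro X; ext y; rw [mem_inf, mem_cj, mem_cj, mem_cj, mem_inf]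
  have hcmp : ∀ v ∈ V, ∀ s ∈ V, v ≠ s →
      F.cmp (g * s * g⁻¹) (g * v * g⁻¹) = IntrinsicBasic.cj g (F.cmp s v) := by
    intro v hv s hs hvs
    have hz := h.ind.z hv hs hvs
    exact F.cmp_conj v hz.left s hz.mem (F.ord s hz.right) g
  refine ⟨h.ind.cj g, by rw [length_lcj]; exact h.two, fun J hJ => ?_, h.pg.map _, ?_, ?_, ?_, ?_, ?_⟩
  · rw [length_lcj]; exact h.max J hJ
  · intro x hx
    obtain ⟨v, hv, rfl⟩ := mem_lcj.mp hx
    exact conj_mem_cj (h.mem v hv)
  · intro x hx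
    obtain ⟨v, hv, rfl⟩ := mem_lcj.mp hx
    rw [F.L_conj v (h.ind.mem v hv), hinf]
    exact (h.syl v hv).map_conj g
  · intro x hx y hy hxy
    obtain ⟨v, hv, rfl⟩ := mem_lcj.mp hx
    obtain ⟨s, hs, rfl⟩ := mem_lcj.mp hy
    have hvs : v ≠ s := by rintro rfl; exact hxy rfl
    rw [hcmp v hv s hs hvs, hinf]
    exact (h.sylB v hv s hs hvs).map_conj g
  · intro x hx y hy hxy a ha ha' v' hv'
    obtain ⟨v, hv, rfl⟩ := mem_lcj.mp hx
    obtain ⟨s, hs, rfl⟩ := mem_lcj.mp hy
    obtain ⟨w, hw, rfl⟩ := mem_lcj.mp hv'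
    have hvs : v ≠ s := by rintro rfl; exact hxy rfl
    rw [hcmp v hv s hs hvs, mem_cj] at ha'
    rw [mem_cj] at ha
    have h3 := h.cenB v hv s hs hvs _ ha ha' w hw
    have h4 : Commute (g * (g⁻¹ * a * g) * g⁻¹) (g * w * g⁻¹) :=
      (Commute.map h3 (MulAut.conj g).toMonoidHom : _)
    have e : g * (g⁻¹ * a * g) * g⁻¹ = a := by group
    rwa [e] at h4
  · intro w hw hwT
    rw [mem_cj] at hwT
    have h3 := F.conj w hw g⁻¹
    rw [inv_inv] at h3
    obtain ⟨v, hv, hwv⟩ := h.cov _ h3 hwT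
    refine ⟨g * v * g⁻¹, mem_lcj.mpr ⟨v, hv, rfl⟩, ?_⟩
    have h4 := hwv.conj g
    have e : g * (g⁻¹ * w * g) * g⁻¹ = w := by group
    rwa [e] at h4

theorem exists_block_of_sylow {u s : G} (h : F.Z u s) (T : Sylow 2 G) :
    ∃ V : List G, Block F (T : Subgroup G) V := by
  have h2 : Fact (Nat.Prime 2) := ⟨Nat.prime_two⟩
  obtain ⟨T₀, V, hV⟩ := exists_block h
  obtain ⟨g, hg⟩ := MulAction.exists_smul_eq G T₀ T
  refine ⟨lcj g V, ?_⟩
  have e : (T : Subgroup G) = IntrinsicBasic.cj g (T₀ : Subgroup G) := by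
    rw [← hg]; rfl
  rw [e]
  exact hV.cj g

end FrameC

end Cfsg.Agent.UGT.I34.WOneC
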