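import Cfsg.Agent.UGT.I34.WOneC.Five

/-!
# I34 [A], world W1: pairs of type c — (C1), (C2), (C5)

`ExY`, `CcMul`: the K-facts lifted (helper15), `OfCmp`: `u` is the only involution of a pump-up of `L u` fixing
`L u`. (C2) and (C5) by helper15's argument: if `(u, v)` is of type c then some involution of `L u ∩ L v` commutes
with a given involution `d` of `C(u, v)` fixing `L u`.
-/

set_option autoImplicit false

open Cfsg Subgroup
open Cfsg.Agent.SignalizersComponents Cfsg.Agent.Lib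
open Cfsg.Agent.SignalizersComponents.IntrinsicBasic
open Cfsg.Agent.SignalizersComponents.PLayerAut
open Cfsg.Agent.Intrinsic
open Cfsg.Agent.Intrinsic.Basic hiding IsPair PQS Target IsPair.sq IsPair.ne_one IsPair.cj
open Cfsg.Agent.Intrinsic.Cen hiding pair_comm pair_mem_cen exists_pump pump_unique
open Cfsg.Agent.Intrinsic.Quot hiding Big isPair_quot small_or_big
open Cfsg.Agent.UGT.I34.Pair Cfsg.Agent.UGT.I34.KF Cfsg.Agent.UGT.I34.WOne
open Cfsg.Agent.McLLyComp.Act (fixes_mul)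

namespace Cfsg.Agent.UGT.I34.WOneC.Cc

open Cfsg.Agent.UGT.I34.WOneC.Five

universe v

variable {G : Type v} [Group G] [Finite G] {κ : Kind.{v}} {τ : Bool} {D : Set G} {L : G → Subgroup G}
  {u v t x s j y : G}

/-- type c -/
structure C (D : Set G) (L : G → Subgroup G) (u v : G) : Prop where
  left : u ∈ D
  right : v ∈ D
  comm : v * u = u * v
  notMem : v ∉ L u
  notFix : ¬ Fixes v (L u)

/-- `C_{L u}(v, d)` contains an involution different from `u` if `(u, v)` is of type c, `d` fixes `L u`. -/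
def ExY (D : Set G) (L : G → Subgroup G) : Prop :=
  ∀ u v : G, C D L u v → ∀ d : G, d * d = 1 → d * u = u * d → d * v = v * d → Fixes d (L u) →
    ∃ y ∈ L u, y * y = 1 ∧ y ≠ 1 ∧ y ≠ u ∧ y * v = v * y ∧ y * d = d * y

/-- the product of two commuting elements of type c on `L u` is not of type c on `L u` -/
def CcMul (D : Set G) (L : G → Subgroup G) : Prop :=
  ∀ u v w : G, C D L u v → C D L u w → v * w = w * v → v * w ∈ D → ¬ C D L u (v * w)

/-- the only involution of a pump-up of `L u` fixing `L u` is `u` -/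
def OfCmp (D : Set G) (L : G → Subgroup G) : Prop :=
  ∀ u ∈ D, ∀ x : G, x * x = 1 → x ≠ 1 → x ≠ u → x * u = u * x → Fixes x (L u) →
    ∀ a ∈ pump x (L u), a * a = 1 → a ≠ 1 → a * u = u * a → Fixes a (L u) → a = u

theorem C.symm (h : W1 κ τ D L) (hc : C D L u v) : C D L v u := by
  refine ⟨hc.right, hc.left, hc.comm.symm, fun h1 => ?_, fun h1 => ?_⟩
  · exact hc.notMem (h.mem_of_mem hc.right h1 (h.sq hc.left) (h.ne_one hc.left))
  · exact hc.notFix (h.symm hc.right hc.left hc.comm h1)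

theorem C.ne (h : W1 κ τ D L) (hc : C D L u v) : v ≠ u := by
  rintro rfl
  exact hc.notMem (h.mem hc.left)

/-- (C1) -/
theorem C.mul_mem (h : W1 κ τ D L) (hc : C D L u v) : u * v ∈ D := by
  obtain ⟨g, -, hg⟩ := h.swap hc.left hc.right hc.comm.symm hc.notFix
  have h1 := h.conj hc.right g⁻¹
  rw [inv_inv, hg, hc.comm] at h1
  exact h1

/-- (5.6) for `L v`: an involution `y ≠ u` of `L u` commuting with `v` does not fix `L v` -/
theorem C.not_fixes (h : W1 κ τ D L) (hc : C D L u v) (hy : y ∈ L u) (hyy : y * y = 1) (hy1 : y ≠ 1)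
    (hyv : y * v = v * y) : ¬ Fixes y (L v) := by
  intro hf
  have hv := hc.right
  have hyD := h.inv_mem hc.left hy hyy hy1
  have huy := h.mem_of_mem hc.left hy hyy hy1
  have hfv : Fixes v (L y) := h.symm hv hyD hyv.symm hf
  have hM := pump_comp (h.pair hyD) (h.sq hv) hyv.symm hfv
  have huM : u ∈ pump v (L y) := mem_pump_of_mem (h.pair hyD) (h.sq hv) hyv.symm hfv huy
    hc.comm.symm (k := 1) (by rw [pow_one, pow_two, h.sq hc.left])
  by_cases e : L v = pump v (L y)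
  · rw [← e] at huM
    exact (hc.symm h).notMem huM
  · exact (hc.symm h).notFix ((h.comp hv).fixes_of_mem hM e huM)

/-- helper15's argument -/
theorem C.pick (h : W1 κ τ D L) (hY : ExY D L) (hcc : CcMul D L) (hc : C D L u v) {d : G}
    (hdd : d * d = 1) (hdu : d * u = u * d) (hdv : d * v = v * d) (hfd : Fixes d (L u)) :
    ∃ y ∈ L u, y ∈ L v ∧ y * y = 1 ∧ y ≠ 1 ∧ y ≠ u ∧ y * v = v * y ∧ y * d = d * y := by
  obtain ⟨y, hy, hyy, hy1, hyu, hyv, hyd⟩ := hY u v hc d hdd hdu hdv hfd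
  have hu := hc.left
  have hyu' := h.comm hu hy
  have hyD := h.inv_mem hu hy hyy hy1
  -- `u y`
  have hm : u * y ∈ L u := (L u).mul_mem (h.mem hu) hy
  have hmm : u * y * (u * y) = 1 := mul_sq (h.sq hu) hyy hyu'.symm
  have hm1 : u * y ≠ 1 := mul_ne_one hyy (Ne.symm hyu)
  have hmu : u * y ≠ u := fun e => hy1 (mul_eq_left.mp e)
  have hmv : u * y * v = v * (u * y) := comm_mul hc.comm.symm hyv
  have hmd : u * y * d = d * (u * y) := comm_mul hdu.symm hyd
  have hmD := h.inv_mem hu hm hmm hm1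
  by_cases h1 : y ∈ L v
  · exact ⟨y, hy, h1, hyy, hy1, hyu, hyv, hyd⟩
  · have h2 := hc.not_fixes h hy hyy hy1 hyv
    have h3 := hc.not_fixes h hm hmm hm1 hmv
    refine ⟨u * y, hm, ?_, hmm, hm1, hmu, hmv, hmd⟩
    by_contra h4
    exact hcc v u y (hc.symm h) ⟨hc.right, hyD, hyv, h1, h2⟩ hyu'.symm hmD
      ⟨hc.right, hmD, hmv, h4, h3⟩

/-- (C2) -/
theorem mem_pump_of_C (h : W1 κ τ D L) (h52 : FxOr D L) (hY : ExY D L) (hcc : CcMul D L) (hs : s ∈ D)
    (hsu : s ≠ u) (hus : s * u = u * s) (hf : Fixes s (L u)) (hc : C D L u v)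
    (hvs : v * s = s * v) : v ∈ pump s (L u) := by
  have hu := hc.left
  have hv := hc.right
  obtain ⟨y, hy, hyv, hyy, hy1, hyu, hyv', hys⟩ := hc.pick h hY hcc (h.sq hs) hus hvs.symm hf
  have hyp := mem_pump_of_mem (h.pair hu) (h.sq hs) hus hf hy hys (k := 1)
    (by rw [pow_one, pow_two, hyy])
  obtain ⟨hyD, hsy, hfy, he⟩ := inherit h h52 hu hs hsu hus hf hyp hyy hy1
  have hvy := h.mem_of_mem hv hyv hyy hy1
  rw [← he]
  exact mem_pump_of_mem (h.pair hyD) (h.sq hs) hsy hfy hvy hvs (k := 1)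
    (by rw [pow_one, pow_two, h.sq hv])

/-- `u ∈ J` does not fix the pump-up `M` when `s` is of type (0) with `u` -/
theorem not_fixes_zero (h : W1 κ τ D L) (h52 : FxOr D L) (hu : u ∈ D) (hs : s ∈ D) (hsu : s ≠ u)
    (hus : s * u = u * s) (hf : Fixes s (L u)) : ¬ Fixes u (pump s (L u)) :=
  (isBig_of_zero h h52 hu hs hsu hus hf).not_fixes h.tgt (h.pair hu) (h.sq hs) hus hf

/-- the pump-ups of `L u` in `C(s)` and in `C(y)` (`y ∈ L s`, both of type (0) with `u`) have the same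
centralizers of `y`, `s`. -/
theorem cen_pump_eq (h : W1 κ τ D L) (h52 : FxOr D L) (hu : u ∈ D) (hs : s ∈ D) (hsu : s ≠ u)
    (hus : s * u = u * s) (hf : Fixes s (L u)) (hy : y ∈ L s) (hyy : y * y = 1) (hy1 : y ≠ 1)
    (hyu : y * u = u * y) :
    cen (pump s (L u)) y = cen (pump y (L u)) s ∧ Fixes y (pump s (L u)) ∧ y ∈ D ∧ y ≠ u ∧
      Fixes y (L u) := by
  have hfu : Fixes u (L s) := h.symm hu hs hus.symm hf
  have hyD := h.inv_mem hs hy hyy hy1
  have hsy := h.mem_of_mem hs hy hyy hy1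
  have hys := h.comm hs hy
  have hyu0 : y ≠ u := by
    rintro rfl
    exact hsu (h.eq_of_fixes hs hy hyy hy1 hfu).symm
  -- `u` is of type (0) with `y`
  have hyp := mem_pump_of_mem (h.pair hs) (h.sq hu) hus.symm hfu hy hyu (k := 1)
    (by rw [pow_one, pow_two, hyy])
  obtain ⟨-, huy, hfuy, -⟩ := inherit h h52 hs hu (Ne.symm hsu) hus.symm hfu hyp hyy hy1
  have hfy : Fixes y (L u) := h.symm hyD hu hyu hfuy
  have hM1 := pump_comp (h.pair hu) (h.sq hs) hus hf
  have hM2 := pump_comp (h.pair hu) hyy hyu hfy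
  have hu1 := mem_pump (h.pair hu) (h.sq hs) hus hf
  have hu2 := mem_pump (h.pair hu) hyy hyu hfy
  -- `y` fixes `M₁`, `s` fixes `M₂`
  have hf1 : Fixes y (pump s (L u)) := by
    refine hM1.fixes_of_mem (h.comp hs) ?_ hy
    intro e
    rw [e] at hu1
    exact hsu (h.eq_of_fixes hs hu1 (h.sq hu) (h.ne_one hu) hfu).symm
  have hf2 : Fixes s (pump y (L u)) := by
    refine hM2.fixes_of_mem (h.comp hyD) ?_ hsy
    intro e
    rw [e] at hu2
    exact hyu0 (h.eq_of_fixes hyD hu2 (h.sq hu) (h.ne_one hu) hfuy).symm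
  have hyC : y ∈ centralizer ({s} : Set G) := mem_centralizer_singleton_iff.mpr hys
  have hsC : s ∈ centralizer ({y} : Set G) := mem_centralizer_singleton_iff.mpr hys.symm
  have hJ1 := isComp_cen hM1 hyC hyy hf1
  have hJ2 := isComp_cen hM2 hsC (h.sq hs) hf2
  rw [inf_comm] at hJ2
  refine ⟨?_, hf1, hyD, hyu0, hfy⟩
  by_contra hne
  have huJ1 : u ∈ cen (pump s (L u)) y := mem_cen_of_sq hu1 hyu.symm (h.sq hu)
  have h3 := hJ2.1.fixes_of_mem hJ1.1 (Ne.symm hne) huJ1
  refine not_fixes_zero h h52 hu hyD hyu0 hyu hfy ?_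
  refine (fixes_iff_of_sup hJ2.2 ?_ ?_).mp h3
  · exact mem_normalizer_cen (le_normalizer hu2) hus.symm
  · exact le_normalizer hu2

/-- (C5) -/
theorem fixes_pump (h : W1 κ τ D L) (h52 : FxOr D L) (hY : ExY D L) (hcc : CcMul D L)
    (hof : OfCmp D L) (hu : u ∈ D) (hs : s ∈ D) (hsu : s ≠ u) (hus : s * u = u * s)
    (hf : Fixes s (L u)) (hj : j ∈ D) (hju : j ≠ u) (huj : j * u = u * j) (hfj : Fixes j (L u))
    (hsj : s * j = j * s) : Fixes j (pump s (L u)) := by
  have hfu : Fixes u (L s) := h.symm hu hs hus.symm hf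
  have hM1 := pump_comp (h.pair hu) (h.sq hs) hus hf
  have hu1 := mem_pump (h.pair hu) (h.sq hs) hus hf
  have hne1 : pump s (L u) ≠ L s := by
    intro e
    rw [e] at hu1
    exact hsu (h.eq_of_fixes hs hu1 (h.sq hu) (h.ne_one hu) hfu).symm
  by_cases h1 : j ∈ L s
  · exact hM1.fixes_of_mem (h.comp hs) hne1 h1
  by_cases h2 : Fixes j (L s)
  · -- type (0)
    have hjs : j ≠ s := by
      rintro rfl
      exact h1 (h.mem hj)
    have hfs : Fixes s (L j) := h.symm hs hj hsj h2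
    have hM3 := pump_comp (h.pair hj) (h.sq hs) hsj hfs
    have hj3 := mem_pump (h.pair hj) (h.sq hs) hsj hfs
    refine hM1.fixes_of_mem hM3 ?_ hj3
    intro e
    rw [← e] at hj3
    exact hju (hof u hu s (h.sq hs) (h.ne_one hs) hsu hus hf j hj3 (h.sq hj) (h.ne_one hj) huj hfj)
  · -- type c
    have hc : C D L s j := ⟨hs, hj, hsj.symm, h1, h2⟩
    obtain ⟨y, hy, hyj, hyy, hy1, -, hyj', hyu⟩ := hc.pick h hY hcc (h.sq hu) hus.symm huj.symm hfu
    obtain ⟨he, hf1, hyD, hyu0, hfy⟩ := cen_pump_eq h h52 hu hs hsu hus hf hy hyy hy1 hyu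
    have hjy := h.mem_of_mem hj hyj hyy hy1
    have hM2 := pump_comp (h.pair hu) hyy hyu hfy
    have hu2 := mem_pump (h.pair hu) hyy hyu hfy
    have hfuy : Fixes u (L y) := h.symm hu hyD hyu.symm hfy
    have hf2 : Fixes j (pump y (L u)) := by
      refine hM2.fixes_of_mem (h.comp hyD) ?_ hjy
      intro e
      rw [e] at hu2
      exact hyu0 (h.eq_of_fixes hyD hu2 (h.sq hu) (h.ne_one hu) hfuy).symm
    have hjM1 : j ∈ normalizer (pump s (L u) : Set G) :=
      mem_normalizer_pump (h.pair hu) (h.sq hs) hus hf (h.norm hu huj) hsj.symm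
    have hys := h.comm hs hy
    have hyC : y ∈ centralizer ({s} : Set G) := mem_centralizer_singleton_iff.mpr hys
    have hJ1 := isComp_cen hM1 hyC hyy hf1
    have hjJ1 : j ∈ normalizer (cen (pump s (L u)) y : Set G) := mem_normalizer_cen hjM1 hyj'.symm
    refine (fixes_iff_of_sup hJ1.2 hjJ1 hjM1).mp ?_
    rw [he] at hjJ1 ⊢
    exact fixes_of_le (cen_le _ _) hjJ1 hf2

end Cfsg.Agent.UGT.I34.WOneC.Cc
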