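import Cfsg.Agent.UGT.I34.WOneC.End
import Cfsg.Agent.Intrinsic.Basic

/-!
The contradiction if the commuting graph on `D` is connected (5b.2 in a `FrameC`).
-/

set_option autoImplicit false
set_option linter.unusedSectionVars false

namespace Cfsg.Agent.UGT.I34.WOneC

open Subgroup Cfsg
open Cfsg.Agent.SignalizersComponents
open Cfsg.Agent.SignalizersComponents.PLayerAut
open Cfsg.Agent.SignalizersComponents.IntrinsicBasic
open Cfsg.Agent.SignalizersComponents.RelSylow
open scoped commutatorElement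
open Cfsg.Agent.Intrinsic.WOneA (Ce OC mem_Ce mul_self_of_order ne_one_of_order order_two
  inv_eq_of_order pow_of_order orderOf_cj conj_eq_of_commute commute_of_conj_eq normalizes dihedral
  lcj mem_lcj length_lcj prod_lcj commute_prod lset isMaxP_of_card IsMaxP.card_le card_cj
  IsMaxP.inf_of_normalizes mem_sup_of_normalizes exists_commuting_conj Asch commute_of_ne
  le_of_involutions)

namespace FrameC

variable {G : Type*} [Group G] [Finite G] {F : FrameC G}

theorem pgroup_zpowers {x : G} (h : orderOf x = 2) : IsPGroup 2 (zpowers x) := by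
  apply IsPGroup.of_card (n := 1)
  rw [Nat.card_zpowers, h]; norm_num

theorem Z.tc {z s : G} (h : F.Z z s) : TC (Ce s) (F.cmp s z) :=
  F.cmp_comp z h.left s h.mem (F.ord s h.right)

theorem Z.exists_noncentral {z s : G} (h : F.Z z s) : ∃ k ∈ F.cmp s z, ¬ Commute k z := by
  have hs2 := F.ord s h.right
  obtain ⟨t, ht, ht2, htz, htc⟩ := F.exists_inv z h.left (zpowers s) (pgroup_zpowers hs2)
    ((zpowers_le).mpr h.mem)
  have hts : Commute t s := htc s (mem_zpowers s)
  obtain ⟨g, hg, hgt⟩ := F.big z h.left s h.right h.ne h.mem t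
    (h.mem_cmp ht (pow_of_order ht2) hts) ht2
  refine ⟨g, hg, fun hc => htz ?_⟩
  rw [← hgt, conj_eq_of_commute hc]

/-- the big component is generated by its involutions -/
theorem Z.cmp_le (hO : ∀ u ∈ F.D, OC u = ⊥) {z s : G} (h : F.Z z s) {N : Subgroup G}
    (hN : ∀ t ∈ F.cmp s z, orderOf t = 2 → t ∈ N) : F.cmp s z ≤ N := by
  obtain ⟨k, hk, hc⟩ := h.exists_noncentral
  exact le_of_involutions h.tc (hO s h.right)
    (F.self_mem_cmp h.left h.mem (F.ord s h.right)) (F.ord z h.left) hk hc hN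

theorem Z.centralizes (hO : ∀ u ∈ F.D, OC u = ⊥) {z s s' : G} (h : F.Z z s) (h' : F.Z z s')
    (hc : Commute s s') {m : G} (hm : m ∈ F.cmp s z) : Commute m s' := by
  have h1 := ((mem_cenMod h.tc.le).mp (h.cen h' hc)).2 m hm
  have h2 : m⁻¹ * (s' * m * s'⁻¹) = 1 := by
    have h3 : m⁻¹ * (s' * m * s'⁻¹) ∈ OC s := h1
    rwa [hO s h.right, mem_bot] at h3
  exact (commute_of_conj_eq (inv_mul_eq_one.mp h2).symm).symm

theorem Z.cmp_le_of_comm (hO : ∀ u ∈ F.D, OC u = ⊥) {z s s' : G} (h : F.Z z s) (h' : F.Z z s')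
    (hc : Commute s s') : F.cmp s z ≤ F.cmp s' z := by
  apply h.cmp_le hO
  have key := F.se z h.left s h.right h.ne h.mem (hO s h.right)
    {t | orderOf t = 2 ∧ t ∈ F.cmp s z ∧ t ∈ F.cmp s' z}
    ⟨F.ord z h.left, F.self_mem_cmp h.left h.mem (F.ord s h.right),
      F.self_mem_cmp h.left h'.mem (F.ord s' h'.right)⟩
  intro t ht ht2
  refine (key ?_ t ht ht2).2.2
  rintro t ⟨ht2, ht, ht'⟩ r hr hr2 htr
  refine ⟨hr2, hr, ?_⟩
  obtain ⟨h1, h2⟩ := h.of_mem_cmp ht ht2
  obtain ⟨h1', h2'⟩ := h'.of_mem_cmp ht' ht2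
  have hrA : F.A t r := A.of_cmp h1.left h1.mem (F.ord s h.right) (by rw [h2]; exact hr) hr2 htr.symm
  rw [← h2']
  exact h1'.mem_cmp_of_A hrA (h.centralizes hO h' hc hr)

theorem Z.cmp_eq_of_comm (hO : ∀ u ∈ F.D, OC u = ⊥) {z s s' : G} (h : F.Z z s) (h' : F.Z z s')
    (hc : Commute s s') : F.cmp s z = F.cmp s' z :=
  le_antisymm (h.cmp_le_of_comm hO h' hc) (h'.cmp_le_of_comm hO h hc.symm)

theorem Z.cmp_eq (hO : ∀ u ∈ F.D, OC u = ⊥) {z s s' : G} (h : F.Z z s) (h' : F.Z z s') :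
    F.cmp s z = F.cmp s' z := by
  have hz2 := F.ord z h.left
  by_cases e : F.cmp z s = F.cmp z s'
  · have key := F.se s h.right z h.left h.ne.symm h.symm.mem (hO z h.left)
      {t | F.Z z t ∧ F.cmp t z = F.cmp s z} ⟨h, rfl⟩
    refine (key ?_ s' ?_ (F.ord s' h'.right)).2.symm
    · rintro t ⟨ht, hte⟩ r hr hr2 htr
      have h1 := (h.symm.of_mem_cmp hr hr2).1.symm
      refine ⟨h1, ?_⟩
      rw [← hte]
      exact h1.cmp_eq_of_comm hO ht htr.symm
    · rw [e]; exact F.self_mem_cmp h'.right h'.symm.mem hz2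
  · refine h.cmp_eq_of_comm hO h' ?_
    exact commute_of_ne h.symm.tc h'.symm.tc e (hO z h.left)
      (F.self_mem_cmp h.right h.symm.mem hz2) (F.self_mem_cmp h'.right h'.symm.mem hz2)

theorem Z.exists_z {u s : G} (h : F.Z u s) {z : G} (hz : z ∈ F.D) : ∃ t, F.Z z t := by
  obtain ⟨g, hg⟩ := F.one_class u h.left z hz
  refine ⟨g * s * g⁻¹, ?_⟩
  rw [← hg]
  exact h.conj g

/-- if `(u, v)` is not of type (0), there is `s` commuting with `v`, `(u, s)` of type (0) -/
theorem A.exists_z {u v s : G} (ha : F.A u v) (h : F.Z u s) :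
    ∃ s', F.Z u s' ∧ Commute v s' := by
  have h2 : Fact (Nat.Prime 2) := ⟨Nat.prime_two⟩
  by_cases e : u = v
  · exact ⟨s, h, e ▸ h.comm⟩
  have hvC : v ∈ Ce u := mem_Ce.mpr ha.comm.symm
  -- a Sylow subgroup of `C(u)` containing `v`, one containing `s`
  obtain ⟨Q, hQ, hvQ⟩ := exists_isMaxP (p := 2) (C := Ce u) (pgroup_zpowers (F.ord v ha.right))
    ((zpowers_le).mpr hvC)
  have hsC : s ∈ Ce u := F.K_le u h.mem
  obtain ⟨c, hc, hcs⟩ := hQ.exists_conj_le (pgroup_zpowers (F.ord s h.right))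
    ((zpowers_le).mpr hsC)
  have h3 : c * s * c⁻¹ ∈ Q := hcs ⟨s, mem_zpowers s, rfl⟩
  have h4 := h.conj c
  have hcu : c * u * c⁻¹ = u := conj_eq_of_commute (mem_Ce.mp hc)
  rw [hcu] at h4
  exact ⟨c * s * c⁻¹, h4, ha.commute_of_Z hQ.1 (hvQ (mem_zpowers v)) h3 h4⟩

open Classical in
variable (F) in
/-- the component `B(z) = M_s(L_z)` (independent of `s`) -/
noncomputable def B (z : G) : Subgroup G := if h : ∃ s, F.Z z s then F.cmp h.choose z else ⊥

theorem Z.B_eq (hO : ∀ u ∈ F.D, OC u = ⊥) {z s : G} (h : F.Z z s) : F.B z = F.cmp s z := by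
  have hex : ∃ s, F.Z z s := ⟨s, h⟩
  unfold B
  rw [dif_pos hex]
  exact hex.choose_spec.cmp_eq hO h

theorem Z.mem_B (hO : ∀ u ∈ F.D, OC u = ⊥) {z s : G} (h : F.Z z s) : z ∈ F.B z := by
  rw [h.B_eq hO]; exact F.self_mem_cmp h.left h.mem (F.ord s h.right)

/-- `B v = B u` if `(u, v)` is not of type (0) -/
theorem Z.B_of_A (hO : ∀ u ∈ F.D, OC u = ⊥) {u s v : G} (h : F.Z u s) (hv : F.A u v) :
    F.B v = F.B u := by
  obtain ⟨t, ht, hc⟩ := hv.exists_z h
  obtain ⟨h1, h2⟩ := ht.inherit_of_A hv hc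
  rw [h1.B_eq hO, ht.B_eq hO, h2]

theorem Z.B_comm (hO : ∀ u ∈ F.D, OC u = ⊥) {u v : G} (h : F.Z u v) {a b : G} (ha : a ∈ F.B u)
    (hb : b ∈ F.B v) : Commute a b := by
  rw [h.symm.B_eq hO] at hb
  have h1 : F.cmp u v ≤ centralizer (F.B u : Set G) := by
    apply h.symm.cmp_le hO
    intro t ht ht2
    have h2 := (h.symm.of_mem_cmp ht ht2).1.symm
    rw [mem_centralizer_iff]
    intro a ha
    rw [SetLike.mem_coe, h2.B_eq hO] at ha
    exact mem_Ce.mp (h2.tc.le ha)
  exact mem_centralizer_iff.mp (h1 hb) a ha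

/-- the components `B` are equal or commute -/
theorem Z.B_eq_or {u₀ s₀ : G} (h₀ : F.Z u₀ s₀) (hO : ∀ u ∈ F.D, OC u = ⊥) {z w : G}
    (hz : z ∈ F.D) (h : F.Con z w) :
    F.B w = F.B z ∨ ∀ a ∈ F.B w, ∀ b ∈ F.B z, Commute a b := by
  have hBB : ∀ u ∈ F.D, ∀ v ∈ F.D, Commute u v → F.B v = F.B u ∨ F.Z u v := by
    intro u hu v hv hc
    rcases F.A_or_Z hu hv hc with h1 | h1
    · obtain ⟨s, hs⟩ := h₀.exists_z hu
      exact Or.inl (hs.B_of_A hO h1)
    · exact Or.inr h1
  induction h with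
  | refl => exact Or.inl rfl
  | @tail u v hzu huv ih =>
    obtain ⟨hu, hv, hc⟩ := huv
    rcases hBB u hu v hv hc with h1 | h1
    · rw [h1]; exact ih
    · rcases ih with h2 | h2
      · right
        intro a ha b hb
        rw [← h2] at hb
        exact (h1.B_comm hO hb ha).symm
      · obtain ⟨s, hs⟩ := h₀.exists_z hu
        obtain ⟨t, ht⟩ := h₀.exists_z hz
        have huz : Commute u z := h2 u (hs.mem_B hO) z (ht.mem_B hO)
        rcases hBB u hu z hz huz with h3 | h3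
        · right
          intro a ha b hb
          rw [h3] at hb
          exact (h1.B_comm hO hb ha).symm
        · by_cases e : F.B v = F.B z
          · exact Or.inl e
          · right
            intro a ha b hb
            rw [h1.symm.B_eq hO] at ha e
            rw [h3.symm.B_eq hO] at hb e
            exact commute_of_ne h1.symm.tc h3.symm.tc e (hO u hu) ha hb

theorem false_of_core [IsSimpleGroup G] {u s : G} (h : F.Z u s) (hO : ∀ u ∈ F.D, OC u = ⊥)
    (hcon : ∀ z ∈ F.D, ∀ w ∈ F.D, F.Con z w) : False := by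
  have hu := h.left
  have hDn : (closure F.D).Normal := by
    refine ⟨fun n hn g => ?_⟩
    induction hn using closure_induction with
    | mem x hx => exact subset_closure (F.conj x hx g)
    | one => rw [mul_one, mul_inv_cancel]; exact one_mem _
    | mul a b _ _ iha ihb =>
      have e : g * (a * b) * g⁻¹ = (g * a * g⁻¹) * (g * b * g⁻¹) := by group
      rw [e]; exact mul_mem iha ihb
    | inv a _ iha =>
      have e : g * a⁻¹ * g⁻¹ = (g * a * g⁻¹)⁻¹ := by group
      rw [e]; exact inv_mem iha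
  have hDtop : closure F.D = ⊤ := by
    rcases hDn.eq_bot_or_eq_top with h1 | h1
    · exfalso
      have h2 : u ∈ closure F.D := subset_closure hu
      rw [h1, mem_bot] at h2
      exact ne_one_of_order (F.ord u hu) h2
    · exact h1
  have hle : closure F.D ≤ normalizer (F.B u : Set G) := by
    rw [closure_le]
    intro w hw
    obtain ⟨t, ht⟩ := h.exists_z hw
    have hwB := ht.mem_B hO
    rcases h.B_eq_or hO hu (hcon u hu w hw) with h1 | h1
    · rw [h1] at hwB
      exact le_normalizer hwB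
    · rw [SetLike.mem_coe, mem_normalizer_iff_cj]
      have hfix : ∀ b ∈ F.B u, w * b * w⁻¹ = b := fun b hb =>
        conj_eq_of_commute (h1 w hwB b hb)
      have hsub : cj w (F.B u) ≤ F.B u := by
        rintro _ ⟨b, hb, rfl⟩
        change w * b * w⁻¹ ∈ F.B u
        rw [hfix b hb]; exact hb
      exact Subgroup.eq_of_le_of_card_ge hsub (card_cj w _).ge
  rw [hDtop, top_le_iff, normalizer_eq_top_iff] at hle
  rcases hle.eq_bot_or_eq_top with h1 | h1
  · have h2 := h.mem_B hO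
    rw [h1, mem_bot] at h2
    exact ne_one_of_order (F.ord u hu) h2
  · rw [h.B_eq hO] at h1
    have h2 : Ce s = ⊤ := by rw [eq_top_iff, ← h1]; exact h.tc.le
    obtain ⟨g, hg⟩ := F.one_class s h.right u hu
    have h3 : g ∈ Ce s := by rw [h2]; exact mem_top g
    rw [conj_eq_of_commute (mem_Ce.mp h3)] at hg
    exact h.ne hg.symm

/-- the cores vanish -/
theorem core_eq_bot [IsSimpleGroup G] {F : FrameC G}
    (hcon : ∀ z ∈ F.D, ∀ w ∈ F.D, F.Con z w) (W : G → Subgroup G)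
    (hW1 : ∀ u ∈ F.D, Odd (Nat.card (W u))) (hW2 : ∀ u ∈ F.D, OC u ≤ W u)
    (hW3 : ∀ u ∈ F.D, ∀ g, W (g * u * g⁻¹) = cj g (W u))
    (hW4 : ∀ u ∈ F.D, ∀ v ∈ F.D, Commute u v → W u = W v) : ∀ u ∈ F.D, OC u = ⊥ := by
  intro z hz
  have hconst : ∀ w, F.Con z w → W w = W z := by
    intro w hw
    induction hw with
    | refl => rfl
    | tail _ hbc ih => rw [← ih]; exact (hW4 _ hbc.1 _ hbc.2.1 hbc.2.2).symm
  have hn : (W z).Normal := by
    rw [← normalizer_eq_top_iff, eq_top_iff]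
    intro g _
    rw [mem_normalizer_iff_cj, ← hW3 z hz g]
    exact hconst _ (hcon z hz _ (F.conj z hz g))
  rcases hn.eq_bot_or_eq_top with h1 | h1
  · rw [eq_bot_iff, ← h1]; exact hW2 z hz
  · exfalso
    have h2 := hW1 z hz
    rw [h1, Subgroup.card_top] at h2
    have h3 : 2 ∣ Nat.card G := by
      rw [← F.ord z hz]; exact orderOf_dvd_natCard z
    exact (Nat.not_even_iff_odd.mpr h2) (even_iff_two_dvd.mpr h3)

/-- the world with pairs of type (0) is empty -/
theorem false_of_frame [IsSimpleGroup G] (F : FrameC G) {u s : G} (h : F.Z u s) (hA : Asch G)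
    (hW : ∃ W : G → Subgroup G, (∀ u ∈ F.D, Odd (Nat.card (W u))) ∧ (∀ u ∈ F.D, OC u ≤ W u) ∧
      (∀ u ∈ F.D, ∀ g, W (g * u * g⁻¹) = cj g (W u)) ∧
      (∀ u ∈ F.D, ∀ v ∈ F.D, Commute u v → W u = W v)) : False := by
  obtain ⟨W, h1, h2, h3, h4⟩ := hW
  have hcon : ∀ z ∈ F.D, ∀ w ∈ F.D, F.Con z w := fun z hz w hw => con h hA hz hw
  exact false_of_core h (core_eq_bot hcon W h1 h2 h3 h4) hcon

end FrameC

end Cfsg.Agent.UGT.I34.WOneC
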