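import Cfsg.Agent.UGT.I34.WOneC.Fusion
import Cfsg.Agent.SignalizersComponents.CoprimeGen

/-!
The commuting graph on `D`, the stabilizer `N` of a component, `C(x) ≤ N` for products `x` of independent sets
(first half of 5b.5 in a `FrameC`).
-/

set_option autoImplicit false
set_option linter.unusedSectionVars false

namespace Cfsg.Agent.UGT.I34.WOneC

open Subgroup Cfsg
open Cfsg.Agent.SignalizersComponents
open Cfsg.Agent.SignalizersComponents.PLayerAut
open Cfsg.Agent.SignalizersComponents.IntrinsicBasic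
open Cfsg.Agent.SignalizersComponents.RelSylow
open Cfsg.Agent.Intrinsic.WOneA (Ce OC mem_Ce mul_self_of_order ne_one_of_order order_two
  inv_eq_of_order pow_of_order orderOf_cj conj_eq_of_commute commute_of_conj_eq normalizes dihedral
  lcj mem_lcj length_lcj prod_lcj commute_prod lset isMaxP_of_card IsMaxP.card_le card_cj
  IsMaxP.inf_of_normalizes mem_sup_of_normalizes exists_commuting_conj)

namespace FrameC

variable {G : Type*} [Group G] (F : FrameC G)

/-- adjacency: commuting elements of `D` -/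
def Adj (a b : G) : Prop := a ∈ F.D ∧ b ∈ F.D ∧ Commute a b

/-- connected by a path of commuting elements of `D` -/
def Con (a b : G) : Prop := Relation.ReflTransGen F.Adj a b

variable {F}

theorem Con.refl (a : G) : F.Con a a := Relation.ReflTransGen.refl

theorem Con.trans {a b c : G} (h : F.Con a b) (h' : F.Con b c) : F.Con a c :=
  Relation.ReflTransGen.trans h h'

theorem Con.of_adj {a b : G} (ha : a ∈ F.D) (hb : b ∈ F.D) (h : Commute a b) : F.Con a b :=
  Relation.ReflTransGen.single ⟨ha, hb, h⟩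

theorem Con.symm {a b : G} (h : F.Con a b) : F.Con b a := by
  induction h with
  | refl => exact Con.refl _
  | tail _ hbc ih => exact (Con.of_adj hbc.2.1 hbc.1 hbc.2.2.symm).trans ih

theorem Con.conj {a b : G} (h : F.Con a b) (g : G) : F.Con (g * a * g⁻¹) (g * b * g⁻¹) := by
  induction h with
  | refl => exact Con.refl _
  | tail _ hbc ih =>
    refine ih.trans (Con.of_adj (F.conj _ hbc.1 g) (F.conj _ hbc.2.1 g) ?_)
    exact (Commute.map hbc.2.2 (MulAut.conj g).toMonoidHom : _)

theorem Con.mem {a b : G} (h : F.Con a b) (ha : a ∈ F.D) : b ∈ F.D := by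
  induction h with
  | refl => exact ha
  | tail _ hbc _ => exact hbc.2.1

variable (F) in
/-- the stabilizer of the connected component of `z` -/
def N (z : G) : Subgroup G where
  carrier := {g | F.Con z (g * z * g⁻¹)}
  mul_mem' := by
    intro g h hg hh
    have h1 := (show F.Con z (h * z * h⁻¹) from hh).conj g
    have h2 := (show F.Con z (g * z * g⁻¹) from hg).trans h1
    have e : g * (h * z * h⁻¹) * g⁻¹ = g * h * z * (g * h)⁻¹ := by group
    rw [e] at h2
    exact h2
  one_mem' := by
    have e : (1 : G) * z * 1⁻¹ = z := by group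
    show F.Con z (1 * z * 1⁻¹)
    rw [e]; exact Con.refl z
  inv_mem' := by
    intro g hg
    have h1 := (show F.Con z (g * z * g⁻¹) from hg).conj g⁻¹
    have e : g⁻¹ * (g * z * g⁻¹) * g⁻¹⁻¹ = z := by group
    rw [e] at h1
    exact h1.symm

theorem mem_N {z g : G} : g ∈ F.N z ↔ F.Con z (g * z * g⁻¹) := Iff.rfl

theorem mem_N_iff {z u g : G} (hu : F.Con z u) : g ∈ F.N z ↔ F.Con z (g * u * g⁻¹) := by
  rw [mem_N]
  constructor
  · intro h; exact h.trans (hu.conj g)
  · intro h; exact h.trans (hu.conj g).symm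

theorem Ce_le_N {z u : G} (hu : F.Con z u) : Ce u ≤ F.N z := by
  intro c hc
  rw [mem_N_iff hu, conj_eq_of_commute (mem_Ce.mp hc)]
  exact hu

theorem Con.adj {z u v : G} (hu : F.Con z u) (huD : u ∈ F.D) (hv : v ∈ F.D) (hc : Commute u v) :
    F.Con z v := hu.trans (Con.of_adj huD hv hc)

variable [Finite G]

/-- elements of `D` in a common 2-group are connected -/
theorem Con.of_pgroup {P : Subgroup G} (hP : IsPGroup 2 P) {z u v : G} (h : F.Con z u)
    (hu : u ∈ F.D) (hv : v ∈ F.D) (huP : u ∈ P) (hvP : v ∈ P) : F.Con z v := by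
  by_cases hc : Commute u v
  · exact h.adj hu hv hc
  · obtain ⟨b, hb, _, hbu, hbv, -⟩ := F.dd hP hu hv huP hvP hc
    exact (h.adj hu hb hbu.comm).adj hb hv hbv.comm.symm

theorem pgroup_le_N {P : Subgroup G} (hP : IsPGroup 2 P) {z u : G} (h : F.Con z u)
    (hu : u ∈ F.D) (huP : u ∈ P) : P ≤ F.N z := by
  intro g hg
  rw [mem_N_iff h]
  exact h.of_pgroup hP hu (F.conj u hu g) huP (P.mul_mem (P.mul_mem hg huP) (P.inv_mem hg))

theorem isMaxP_of_sylow_le (T : Sylow 2 G) {H : Subgroup G} (h : (T : Subgroup G) ≤ H) :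
    IsMaxP 2 H (T : Subgroup G) :=
  ⟨T.2, h, fun _ hR _ hTR => (T.3 hR hTR).le⟩

/-- `D ∩ N` is the component of `z` -/
theorem con_of_mem_N {z w : G} (hz : z ∈ F.D) (hw : w ∈ F.D) (hwN : w ∈ F.N z) : F.Con z w := by
  have h2 : Fact (Nat.Prime 2) := ⟨Nat.prime_two⟩
  have hzp : ∀ x ∈ F.D, IsPGroup 2 (zpowers x) := by
    intro x hx
    apply IsPGroup.of_card (n := 1)
    rw [Nat.card_zpowers, F.ord x hx]; norm_num
  obtain ⟨T, hT⟩ := (hzp z hz).exists_le_sylow
  have hzT : z ∈ (T : Subgroup G) := hT (mem_zpowers z)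
  have hTN := pgroup_le_N T.2 (Con.refl (F := F) z) hz hzT
  obtain ⟨c, hc, hcw⟩ := (isMaxP_of_sylow_le T hTN).exists_conj_le (hzp w hw)
    ((zpowers_le).mpr hwN)
  have h3 : c * w * c⁻¹ ∈ (T : Subgroup G) := hcw ⟨w, mem_zpowers w, rfl⟩
  have h4 := (Con.refl (F := F) z).of_pgroup T.2 hz (F.conj w hw c) hzT h3
  have h5 : c⁻¹ ∈ F.N z := (F.N z).inv_mem hc
  have h6 := (mem_N_iff h4).mp h5
  have e : c⁻¹ * (c * w * c⁻¹) * c⁻¹⁻¹ = w := by group
  rwa [e] at h6

theorem mem_N_of_conj {z u g : G} (hz : z ∈ F.D) (hu : F.Con z u) (h : g * u * g⁻¹ ∈ F.N z) :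
    g ∈ F.N z := by
  rw [mem_N_iff hu]
  exact con_of_mem_N hz (F.conj u (hu.mem hz) g) h

/-- `C(x) ≤ N` for a product `x` of an independent set in the component of `z` (5b.5, first half) -/
theorem Ind.Ce_le {J : List G} (h : F.Ind J) (hne : J ≠ []) {z : G} (hz : z ∈ F.D)
    (hJ : ∀ j ∈ J, F.Con z j) : Ce J.prod ≤ F.N z := by
  have h2 : Fact (Nat.Prime 2) := ⟨Nat.prime_two⟩
  obtain ⟨u, J', rfl⟩ := List.exists_cons_of_ne_nil hne
  obtain ⟨hu, hzJ, hJ'⟩ := h.of_cons
  have hu2 := F.ord u hu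
  have hconu : F.Con z u := hJ u (by simp)
  obtain ⟨x, hx⟩ : ∃ x, x = (u :: J').prod := ⟨_, rfl⟩
  have hx2 : orderOf x = 2 := hx ▸ h.orderOf_prod hne
  have hxu : x = u * J'.prod := by rw [hx, List.prod_cons]
  rw [← hx]
  -- an involution `t`
  obtain ⟨t, htL, ht2, htne, htc⟩ := F.exists_inv u hu (closure (lset J')) hJ'.closure_pgroup (by
    rw [closure_le]; intro j hj; exact (hzJ j hj).mem)
  have htc' : ∀ j ∈ J', Commute t j := fun j hj => htc j (subset_closure hj)
  obtain ⟨htD, hut⟩ := F.invol u hu t htL ht2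
  have htu : Commute t u := mem_Ce.mp (F.L_le hu htL)
  have htx : Commute t x := by
    rw [hxu]; exact htu.mul_right (Cfsg.Agent.Intrinsic.WOneA.commute_prod htc')
  have hJK : ∀ j ∈ J', j ∈ F.K t := fun j hj => ((hzJ j hj).inherit htL ht2 (htc' j hj)).1.mem
  have hxKu : x ∈ F.K u := by
    rw [hxu]
    exact (F.K u).mul_mem (F.self_mem_K hu) (list_prod_mem fun j hj => (hzJ j hj).mem)
  have hxKt : x ∉ F.K t := by
    intro hK
    have h3 : u ∈ F.K t := by
      have h4 := (F.K t).mul_mem hK ((F.K t).inv_mem (list_prod_mem hJK))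
      rwa [hxu, mul_inv_cancel_right] at h4
    exact htne (F.inf_eq t htD u hut hu2 h3).symm
  have hsmall : u ∈ cenMod (Ce x) (F.cmp x u) := F.small u hu x hxKu hx2 t htL ht2 htne htx hxKt
  have hM := F.cmp_comp u hu x hxKu hx2
  have huM := F.self_mem_cmp hu hxKu hx2
  have hux : Commute u x := (mem_Ce.mp (F.K_le u hxKu)).symm
  -- `O(C(x)) ≤ N`
  have htne1 : t ≠ 1 := ne_one_of_order ht2
  have hune1 : u ≠ 1 := ne_one_of_order hu2
  have hut1 : u * t ≠ 1 := by
    intro e
    apply htne
    rw [← inv_eq_of_order hu2]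
    exact eq_inv_of_mul_eq_one_right e
  have hut2 : orderOf (u * t) = 2 := by
    refine order_two ?_ hut1
    calc u * t * (u * t) = u * (t * u) * t := by group
      _ = u * (u * t) * t := by rw [htu.eq]
      _ = (u * u) * (t * t) := by group
      _ = 1 := by rw [mul_self_of_order hu2, mul_self_of_order ht2, one_mul]
  have hutL : u * t ∈ F.L u := (F.L u).mul_mem (F.self_mem u hu) htL
  obtain ⟨hutD, -⟩ := F.invol u hu (u * t) hutL hut2
  have hcont : F.Con z t := hconu.adj hu htD htu.symm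
  have hconut : F.Con z (u * t) := hconu.adj hu hutD ((Commute.refl u).mul_right htu.symm)
  obtain ⟨A, hA⟩ : ∃ A : Subgroup G, (A : Set G) = {1, u, t, u * t} := by
    refine ⟨{ carrier := {1, u, t, u * t}, mul_mem' := ?_, one_mem' := by simp, inv_mem' := ?_ }, rfl⟩
    · have huu := mul_self_of_order hu2
      have htt := mul_self_of_order ht2
      have e1 : t * u = u * t := htu.eq
      have e2 : u * (u * t) = t := by rw [← mul_assoc, huu, one_mul]
      have e3 : t * (u * t) = u := by rw [← mul_assoc, e1, mul_assoc, htt, mul_one]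
      have e4 : u * t * u = t := by rw [mul_assoc, e1, e2]
      have e5 : u * t * t = u := by rw [mul_assoc, htt, mul_one]
      have e6 : u * t * (u * t) = 1 := mul_self_of_order hut2
      rintro a b (rfl | rfl | rfl | rfl) (rfl | rfl | rfl | rfl) <;>
        simp [huu, htt, e1, e2, e3, e4, e5, e6]
    · rintro a (rfl | rfl | rfl | rfl)
      · simp
      · rw [inv_eq_of_order hu2]; simp
      · rw [inv_eq_of_order ht2]; simp
      · show (u * t)⁻¹ ∈ _
        rw [inv_eq_of_order hut2]; simp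
  have hmemA : ∀ a, a ∈ A ↔ a = 1 ∨ a = u ∨ a = t ∨ a = u * t := by
    intro a
    rw [← SetLike.mem_coe, hA]; simp
  have hAel : Cfsg.IsElementaryAbelian 2 A := by
    refine ⟨⟨⟨?_⟩⟩, ?_⟩
    · rintro ⟨a, ha⟩ ⟨b, hb⟩
      apply Subtype.ext
      show a * b = b * a
      rcases (hmemA a).mp ha with rfl | rfl | rfl | rfl <;>
        rcases (hmemA b).mp hb with rfl | rfl | rfl | rfl
      all_goals first
        | rfl
        | (simp; done)
        | exact htu.eq
        | exact htu.eq.symm
        | exact ((Commute.refl _).mul_right htu.symm).eq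
        | exact ((Commute.refl _).mul_right htu.symm).eq.symm
        | exact (htu.mul_right (Commute.refl _)).eq
        | exact (htu.mul_right (Commute.refl _)).eq.symm
    · intro a ha
      rw [pow_two]
      rcases (hmemA a).mp ha with rfl | rfl | rfl | rfl
      · exact one_mul 1
      · exact mul_self_of_order hu2
      · exact mul_self_of_order ht2
      · exact mul_self_of_order hut2
  have hA4 : 2 ^ 2 ≤ Nat.card A := by
    have h3 : Nat.card A = Set.ncard ({1, u, t, u * t} : Set G) := by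
      rw [← hA]; rfl
    rw [h3]
    have hne1 : u ≠ u * t := fun e => htne1 (mul_left_cancel (e.symm.trans (mul_one u).symm))
    have hne2 : t ≠ u * t := fun e => hune1 (mul_right_cancel (e.symm.trans (one_mul t).symm))
    rw [Set.ncard_insert_of_notMem (by
        simp only [Set.mem_insert_iff, Set.mem_singleton_iff, not_or]
        exact ⟨hune1.symm, htne1.symm, hut1.symm⟩),
      Set.ncard_insert_of_notMem (by
        simp only [Set.mem_insert_iff, Set.mem_singleton_iff, not_or]
        exact ⟨htne.symm, hne1⟩),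
      Set.ncard_insert_of_notMem (by
        simp only [Set.mem_singleton_iff]
        exact hne2),
      Set.ncard_singleton]
    norm_num
  have hAx : A ≤ Ce x := by
    intro a ha
    rw [mem_Ce]
    rcases (hmemA a).mp ha with rfl | rfl | rfl | rfl
    · exact Commute.one_left x
    · exact hux
    · exact htx
    · exact hux.mul_left htx
  have hOn : Ce x ≤ normalizer (OC x : Set G) :=
    le_normalizer.trans (normalizer_le_normalizer_relCore 2 _)
  have hodd : ¬ 2 ∣ Nat.card (OC x) := by
    have := odd_card_relCore (Ce x)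
    intro hd
    exact (Nat.not_even_iff_odd.mpr this) (even_iff_two_dvd.mpr hd)
  have hON : OC x ≤ F.N z := by
    refine (CoprimeGen.le_iSup_centralizer_ne_one (p := 2) hAel hA4 hodd (hAx.trans hOn)).trans ?_
    refine iSup_le fun a => ?_
    refine inf_le_right.trans ?_
    have ha := (hmemA a.1).mp a.2.1
    rcases ha with e | e | e | e
    · exact absurd e a.2.2
    · rw [e]; exact Ce_le_N hconu
    · rw [e]; exact Ce_le_N hcont
    · rw [e]; exact Ce_le_N hconut
  -- the conjugates of `u` under `C(x)`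
  intro c hc
  have hcx : c * x * c⁻¹ = x := conj_eq_of_commute (mem_Ce.mp hc)
  obtain ⟨u', hu'⟩ : ∃ u', u' = c * u * c⁻¹ := ⟨_, rfl⟩
  have hu'D : u' ∈ F.D := hu' ▸ F.conj u hu c
  have hu'2 := F.ord u' hu'D
  have hM' : F.cmp x u' = IntrinsicBasic.cj c (F.cmp x u) := by
    have := F.cmp_conj u hu x hxKu hx2 c
    rw [hcx, ← hu'] at this
    exact this
  have hu'M : u' ∈ F.cmp x u' := by
    rw [hM', hu']; exact conj_mem_cj huM
  have hM'c : TC (Ce x) (F.cmp x u') := by
    rw [hM']; exact hM.cj_of_mem (le_normalizer hc)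
  have hxm : u'⁻¹ * (u * u' * u⁻¹) ∈ OC x := by
    by_cases e : F.cmp x u' = F.cmp x u
    · rw [e] at hu'M
      exact ((mem_cenMod hM.le).mp hsmall).2 u' hu'M
    · exact ((mem_cenMod hM'c.le).mp (hM'c.le_cenMod hM e huM)).2 u' hu'M
  have hu'x : u' ∈ Ce x := hM'c.le hu'M
  have hux' : u ∈ Ce x := mem_Ce.mpr hux
  obtain ⟨o, ho, hoo, hcom⟩ := Cfsg.Agent.Intrinsic.Lifting.exists_involution (odd_card_relCore (Ce x))
    (v := u) (x := u') (n := 1) (pow_of_order hu2) (hOn hux') (hOn hu'x)
    (by rw [mul_self_of_order hu'2]; exact one_mem _) hxm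
  obtain ⟨o', ho', hconj⟩ := Cfsg.Agent.Intrinsic.Lifting.exists_conj_eq (odd_card_relCore (Ce x)) (v := u')
    (v' := u' * o) (n := 1) (m := 1) (pow_of_order hu'2)
    (by rw [pow_one, pow_two]; exact hoo) (hOn hu'x) (by rw [inv_mul_cancel_left]; exact ho)
  have hw : F.Con z (u' * o) := by
    refine hconu.adj hu ?_ hcom
    rw [← hconj]; exact F.conj u' hu'D o'
  have hoc : o' * c ∈ F.N z := by
    rw [mem_N_iff hconu]
    have e : o' * c * u * (o' * c)⁻¹ = u' * o := by rw [← hconj, hu']; group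
    rw [e]; exact hw
  have h3 := (F.N z).mul_mem ((F.N z).inv_mem (hON ho')) hoc
  rwa [inv_mul_cancel_left] at h3

end FrameC

end Cfsg.Agent.UGT.I34.WOneC
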