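import Cfsg.Agent.UGT.I34.WOne

/-!
# I34 [A], world W1: (5.5) from (5.2)

`FxOr D L` is (5.2). For a pair of type (0), `s ∈ D` fixing `L u`, `s ≠ u`: `s` is big for `u`, `u` is big for `s`,
`s u ∉ D`. `mem_pump_zero` = inheritance.
-/

set_option autoImplicit false

open Cfsg Subgroup
open Cfsg.Agent.SignalizersComponents Cfsg.Agent.Lib
open Cfsg.Agent.SignalizersComponents.IntrinsicBasic
open Cfsg.Agent.SignalizersComponents.PLayerAut
open Cfsg.Agent.Intrinsic
open Cfsg.Agent.Intrinsic.Basic hiding IsPair PQS Target IsPair.sq IsPair.ne_one IsPair.cj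
open Cfsg.Agent.Intrinsic.Cen hiding pair_comm pair_mem_cen exists_pump pump_unique
open Cfsg.Agent.Intrinsic.Quot hiding Big isPair_quot small_or_big
open Cfsg.Agent.UGT.I34.Pair Cfsg.Agent.UGT.I34.KF Cfsg.Agent.UGT.I34.WOne
open Cfsg.Agent.McLLyComp.Act (fixes_mul)

namespace Cfsg.Agent.UGT.I34.WOneC.Five

universe v

variable {G : Type v} [Group G] [Finite G] {κ : Kind.{v}} {τ : Bool} {D : Set G} {L : G → Subgroup G}
  {u v t x s : G}

/-- (5.2) -/
def FxOr (D : Set G) (L : G → Subgroup G) : Prop :=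
  ∀ u ∈ D, ∀ x : G, x * x = 1 → x ≠ 1 → x ≠ u → x * u = u * x → Fixes x (L u) →
    ∀ t ∈ L u, t * t = 1 → t ≠ 1 → t ≠ u → x * t = t * x → Fixes x (L t) ∨ Fixes (x * u) (L t)

section

variable (h : W1 κ τ D L) (h52 : FxOr D L) (hu : u ∈ D) (hxx : x * x = 1) (hx1 : x ≠ 1)
  (hxu : x ≠ u) (hx : x * u = u * x) (hf : Fixes x (L u))

include h hu hxx hx1 hxu hx hf

/-- not both `x` and `x u` are big -/
theorem not_both (hb : IsBig κ u (L u) x) (hb' : IsBig κ u (L u) (x * u)) : False := by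
  obtain ⟨t, ht, htt, ht1, htu, hxt⟩ := h.exists_inv_comm_one hu (m := 1)
    (by rw [pow_one, pow_two, hxx]) hf
  have h1 := h.fixes_of_isBig hu hxx hx1 hx hf ht htt ht1 hxt hb
  have hut := (h.comm hu ht).symm
  have h2 := h.fixes_of_isBig hu (mul_sq hxx (h.sq hu) hx) (mul_ne_one (h.sq hu) hxu)
    (comm_mul hx rfl) (fixes_mul hf (h.fixes_self hu)) ht htt ht1
    (by rw [mul_assoc, hut, ← mul_assoc, hxt, mul_assoc]) hb'
  have h3 := fixes_mul h1 h2
  rw [← mul_assoc, hxx, one_mul] at h3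
  exact h.not_fixes (h.inv_mem hu ht htt ht1) (h.mem_of_mem hu ht htt ht1) (h.sq hu)
    (h.ne_one hu) (Ne.symm htu) h3

include h52 in
/-- `x` or `x u` is big -/
theorem big_or : IsBig κ u (L u) x ∨ IsBig κ u (L u) (x * u) := by
  obtain ⟨t, ht, htt, ht1, htu, hxt⟩ := h.exists_inv_comm_one hu (m := 1)
    (by rw [pow_one, pow_two, hxx]) hf
  have hut := (h.comm hu ht).symm
  rcases h52 u hu x hxx hx1 hxu hx hf t ht htt ht1 htu hxt with h1 | h1
  · exact Or.inl ((h.isBig_iff hu hxx hx1 hx hf ht htt ht1 htu hxt).mpr h1)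
  · right
    exact (h.isBig_iff hu (mul_sq hxx (h.sq hu) hx) (mul_ne_one (h.sq hu) hxu)
      (comm_mul hx rfl)
      (fixes_mul hf (h.fixes_self hu)) ht htt ht1 htu
      (by rw [mul_assoc, hut, ← mul_assoc, hxt, mul_assoc])).mpr h1

end

/-- `u s` is not big for `s` in a pair of type (0) -/
theorem not_big_mul (h : W1 κ τ D L) (hu : u ∈ D) (hs : s ∈ D) (hsu : s ≠ u)
    (hus : s * u = u * s) (hf : Fixes s (L u)) : ¬ IsBig κ s (L s) (u * s) := by
  intro hb
  have hfu : Fixes u (L s) := h.symm hu hs hus.symm hf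
  obtain ⟨t, ht, htt, ht1, hts, hut⟩ := h.exists_inv_comm_one hs (m := 1)
    (by rw [pow_one, pow_two, h.sq hu]) hfu
  have htD := h.inv_mem hs ht htt ht1
  have hst := (h.comm hs ht).symm
  have h1 := h.fixes_of_isBig hs (mul_sq (h.sq hu) (h.sq hs) hus.symm)
    (mul_ne_one (h.sq hs) (Ne.symm hsu)) (comm_mul hus.symm rfl)
    (fixes_mul hfu (h.fixes_self hs)) ht htt ht1
    (by rw [mul_assoc, hst, ← mul_assoc, hut, mul_assoc]) hb
  -- `t` lies in the pump-up of `L s` in `C(u)`, which is not `L u`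
  have hp := pump_comp (h.pair hs) (h.sq hu) hus.symm hfu
  have htp := mem_pump_of_mem (h.pair hs) (h.sq hu) hus.symm hfu ht hut.symm (k := 1)
    (by rw [pow_one, pow_two, htt])
  have hsp := mem_pump (h.pair hs) (h.sq hu) hus.symm hfu
  have hne : L u ≠ pump u (L s) := by
    intro he
    rw [← he] at hsp
    exact hsu (h.eq_of_fixes hu hsp (h.sq hs) (h.ne_one hs) hf)
  have h2 := (h.comp hu).fixes_of_mem hp hne htp
  have h3 := h.symm hu htD hut h2
  have h4 := fixes_mul h3 h1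
  rw [← mul_assoc, h.sq hu, one_mul] at h4
  exact h.not_fixes htD (h.mem_of_mem hs ht htt ht1) (h.sq hs) (h.ne_one hs) (Ne.symm hts) h4

/-- **(5.5)** -/
theorem isBig_of_zero (h : W1 κ τ D L) (h52 : FxOr D L) (hu : u ∈ D) (hs : s ∈ D) (hsu : s ≠ u)
    (hus : s * u = u * s) (hf : Fixes s (L u)) : IsBig κ u (L u) s := by
  have hfu : Fixes u (L s) := h.symm hu hs hus.symm hf
  exact (big_or h h52 hu (h.sq hs) (h.ne_one hs) hsu hus hf).resolve_right
    (not_big_mul h hs hu (Ne.symm hsu) hus.symm hfu)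

/-- **(5.5)** -/
theorem mul_notMem (h : W1 κ τ D L) (h52 : FxOr D L) (hu : u ∈ D) (hs : s ∈ D) (hsu : s ≠ u)
    (hus : s * u = u * s) (hf : Fixes s (L u)) : s * u ∉ D := by
  intro hsuD
  have h1 := isBig_of_zero h h52 hu hs hsu hus hf
  have h2 := isBig_of_zero h h52 hu hsuD (fun he => h.ne_one hs (mul_eq_right.mp he))
    (comm_mul hus rfl) (fixes_mul hf (h.fixes_self hu))
  exact not_both h hu (h.sq hs) (h.ne_one hs) hsu hus hf h1 h2

/-- inheritance: `s` of type (0) with `u`, `t ∈ L u` an involution commuting with `s` -/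
theorem inherit (h : W1 κ τ D L) (h52 : FxOr D L) (hu : u ∈ D) (hs : s ∈ D) (hsu : s ≠ u)
    (hus : s * u = u * s) (hf : Fixes s (L u)) (ht : t ∈ pump s (L u)) (htt : t * t = 1) (ht1 : t ≠ 1) :
    t ∈ D ∧ s * t = t * s ∧ Fixes s (L t) ∧ pump s (L t) = pump s (L u) := by
  obtain ⟨h1, h2, h3, h4, -⟩ := h.of_mem_pump hu (h.sq hs) (h.ne_one hs) hus hf
    (isBig_of_zero h h52 hu hs hsu hus hf) ht htt ht1
  exact ⟨h1, h2, h3, h4⟩

/-- the contradiction in (5.6) -/
theorem split_aux (h : W1 κ τ D L) (h52 : FxOr D L) (hu : u ∈ D) {l k : G} (hl : l ∈ L u)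
    (hll : l * l = 1) (hl1 : l ≠ 1) (hlu : l ≠ u) (hkk : k * k = 1) (hk1 : k ≠ 1) (hk : k * u = u * k) (hkl : k * l = l * k) (hf : Fixes k (L u)) (hb : IsBig κ u (L u) k)
    (hD : k * l ∈ D) : False := by
  have hlD := h.inv_mem hu hl hll hl1
  have h1 := h.fixes_of_isBig hu hkk hk1 hk hf hl hll hl1 hkl hb
  have h2 := (h.isBig_of_fixes hu hkk hk hf hl hll hl1 hlu hkl hk1 h1).2
  have hkne : k ≠ l := by
    rintro rfl
    exact h.not_fixes hu hl hll hl1 hlu hf
  have h3 := isBig_of_zero h h52 hlD hD (fun he => hk1 (mul_eq_right.mp he))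
    (comm_mul hkl rfl) (fixes_mul h1 (h.fixes_self hlD))
  exact not_both h hlD hkk hk1 hkne hkl h1 h2 h3

/-- **(5.6)**: if `s ∈ D ∩ C(u)` acts on `L u` as the involution `l ∈ L u` does then `s ∈ L u`. -/
theorem mem_of_inner (h : W1 κ τ D L) (h52 : FxOr D L) (hu : u ∈ D) (hs : s ∈ D)
    (hus : s * u = u * s) {l : G} (hl : l ∈ L u) (hll : l * l = 1) (hl1 : l ≠ 1) (hlu : l ≠ u)
    (hsl : s * l = l * s) (hf : Fixes (l * s) (L u)) : s ∈ L u := by
  by_contra hsL
  have hlu' := h.comm hu hl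
  obtain ⟨k, hk⟩ : ∃ k, k = l * s := ⟨_, rfl⟩
  have hkk : k * k = 1 := by rw [hk]; exact mul_sq hll (h.sq hs) hsl.symm
  have hsk : s = k * l := by rw [hk, mul_assoc, hsl, ← mul_assoc, hll, one_mul]
  have hku : k * u = u * k := by rw [hk]; exact comm_mul hlu' hus
  have hkl : k * l = l * k := by rw [← hsk, hk, ← mul_assoc, hll, one_mul]
  rw [← hk] at hf
  have hk1 : k ≠ 1 := by
    rintro rfl
    rw [one_mul] at hsk
    exact hsL (hsk ▸ hl)
  have hkne : k ≠ u := by
    rintro rfl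
    exact hsL (hsk ▸ (L k).mul_mem (h.mem hu) hl)
  rcases big_or h h52 hu hkk hk1 hkne hku hf with hbig | hbig
  · exact split_aux h h52 hu hl hll hl1 hlu hkk hk1 hku hkl hf hbig (hsk ▸ hs)
  · refine split_aux h h52 hu (l := l * u) (k := k * u) ((L u).mul_mem hl (h.mem hu))
      (mul_sq hll (h.sq hu) hlu') (mul_ne_one (h.sq hu) hlu) (fun he => hl1 (mul_eq_right.mp he))
      (mul_sq hkk (h.sq hu) hku) (mul_ne_one (h.sq hu) hkne)
      (comm_mul hku rfl) ?_ (fixes_mul hf (h.fixes_self hu)) hbig ?_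
    · rw [show k * u * (l * u) = k * (u * l) * u by group, ← hlu',
        show l * u * (k * u) = l * (u * k) * u by group, ← hku,
        show k * (l * u) * u = (k * l) * (u * u) by group,
        show l * (k * u) * u = (l * k) * (u * u) by group, hkl]
    · rw [show k * u * (l * u) = k * (u * l) * u by group, ← hlu',
        show k * (l * u) * u = (k * l) * (u * u) by group, h.sq hu, mul_one, ← hsk]
      exact hs

end Cfsg.Agent.UGT.I34.WOneC.Five
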