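import Mathlib
import Cfsg.Agent.Intrinsic.WOneA.Comp

/-!
Theorem I34, part [A], world W1a (pairs of type (0)) of `4_1.L₃(4)`: the abstract record `FrameC`.

It is `WOneA.Frame` (S1738, section 5b) for a world with a third kind of commuting pairs of elements of `D`
(type c: `v ∉ L u`, `v ∉ K u`): no trichotomy, `prodC` = (C1), `memC` = (C2), `of_cmp` weakened, `cen5` = (C5).
-/

set_option autoImplicit false

namespace Cfsg.Agent.UGT.I34.WOneC

open Subgroup Cfsg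
open Cfsg.Agent.SignalizersComponents.PLayerAut
open Cfsg.Agent.SignalizersComponents.IntrinsicBasic
open Cfsg.Agent.SignalizersComponents.RelSylow
open Cfsg.Agent.Intrinsic.WOneA (Ce OC)

/-- The output of section 5 in the world with pairs of type (0) and type c. -/
structure FrameC (G : Type*) [Group G] where
  /-- the class `D` -/
  D : Set G
  /-- `L u = L_u` -/
  L : G → Subgroup G
  /-- `cmp x u = M_x(L_u)` -/
  cmp : G → G → Subgroup G
  ord : ∀ u ∈ D, orderOf u = 2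
  conj : ∀ u ∈ D, ∀ g : G, g * u * g⁻¹ ∈ D
  one_class : ∀ u ∈ D, ∀ v ∈ D, ∃ g : G, g * u * g⁻¹ = v
  L_conj : ∀ u ∈ D, ∀ g : G, L (g * u * g⁻¹) = cj g (L u)
  L_comp : ∀ u ∈ D, TC (Ce u) (L u)
  self_mem : ∀ u ∈ D, u ∈ L u
  /-- (5.1) and all involutions of `L u` are in `D` -/
  invol : ∀ u ∈ D, ∀ t ∈ L u, orderOf t = 2 → t ∈ D ∧ u ∈ L t
  /-- `Z(L u / O(L u))` has `u` as its only involution -/
  inf_eq : ∀ u ∈ D, ∀ t ∈ L u, orderOf t = 2 → t ∈ cenMod (Ce u) (L u) → t = u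
  /-- type (0) is symmetric -/
  symm : ∀ u ∈ D, ∀ v ∈ D, v ∈ cenMod (Ce u) (L u) → u ∈ cenMod (Ce v) (L v)
  /-- (5.5): the product of a pair of type (0) is not in `D` -/
  prod : ∀ u ∈ D, ∀ v ∈ D, u ≠ v → v ∈ cenMod (Ce u) (L u) → u * v ∉ D
  /-- (C1): the product of a pair of type c is in `D` -/
  prodC : ∀ u ∈ D, ∀ v ∈ D, Commute u v → v ∉ L u → v ∉ cenMod (Ce u) (L u) → u * v ∈ D
  /-- a 2-group `V` centralizing `L u` modulo core centralizes some involution `≠ u` of `L u` -/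
  exists_inv : ∀ u ∈ D, ∀ V : Subgroup G, IsPGroup 2 V → V ≤ cenMod (Ce u) (L u) →
    ∃ t ∈ L u, orderOf t = 2 ∧ t ≠ u ∧ ∀ v ∈ V, Commute t v
  /-- elements `t` of `D` commuting with `u` and not centralizing `L u` modulo core do not centralize a Sylow
  2-subgroup of `L u` -/
  sylow : ∀ u ∈ D, ∀ t ∈ D, Commute t u → t ∉ cenMod (Ce u) (L u) → ∀ P : Subgroup G,
    IsMaxP 2 (L u) P → ∃ p ∈ P, ¬ Commute p t
  cmp_comp : ∀ u ∈ D, ∀ x ∈ cenMod (Ce u) (L u), orderOf x = 2 → TC (Ce x) (cmp x u)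
  cmp_self : ∀ u ∈ D, cmp u u = L u
  cmp_conj : ∀ u ∈ D, ∀ x ∈ cenMod (Ce u) (L u), orderOf x = 2 → ∀ g : G,
    cmp (g * x * g⁻¹) (g * u * g⁻¹) = cj g (cmp x u)
  /-- 2-elements of `L u` commuting with `x` are in `M_x(L_u)` -/
  mem_cmp : ∀ u ∈ D, ∀ x ∈ cenMod (Ce u) (L u), orderOf x = 2 → ∀ a ∈ L u, ∀ n : ℕ,
    a ^ 2 ^ n = 1 → Commute a x → a ∈ cmp x u
  /-- (C2): `s ≠ u` of type (0), `v` not of type (0), `u, v, s` commuting: `v ∈ M_s(L_u)` -/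
  memC : ∀ u ∈ D, ∀ s ∈ D, u ≠ s → s ∈ cenMod (Ce u) (L u) → ∀ v ∈ D, Commute v u → Commute v s →
    v ∉ cenMod (Ce u) (L u) → v ∈ cmp s u
  /-- (C2'): `u` is the only involution of `M_x(L_u)` centralizing `L u` modulo core -/
  of_cmp : ∀ u ∈ D, ∀ x ∈ cenMod (Ce u) (L u), orderOf x = 2 → ∀ a ∈ cmp x u, orderOf a = 2 →
    a ∈ cenMod (Ce u) (L u) → a = u
  /-- all involutions of `M_x(L_u)` are in `D` -/
  cmp_inv : ∀ u ∈ D, ∀ x ∈ cenMod (Ce u) (L u), orderOf x = 2 → ∀ t ∈ cmp x u, orderOf t = 2 →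
    t ∈ D
  /-- an involution centralizing `M_x(L_u)` modulo core (and `u`) centralizes `L u` modulo core -/
  cmp_cen : ∀ u ∈ D, ∀ x ∈ cenMod (Ce u) (L u), orderOf x = 2 → ∀ c : G, orderOf c = 2 →
    Commute c u → c ∈ cenMod (Ce x) (cmp x u) → c ∈ cenMod (Ce u) (L u)
  /-- (5.5): for a pair of type (0) `M_s(L_u)` is big: all its involutions are conjugate in it -/
  big : ∀ u ∈ D, ∀ s ∈ D, u ≠ s → s ∈ cenMod (Ce u) (L u) → ∀ t ∈ cmp s u, orderOf t = 2 →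
    ∃ g ∈ cmp s u, g * u * g⁻¹ = t
  /-- (C5): commuting `s, j` of type (0) with `u`: `j` centralizes `M_s(L_u)` modulo core -/
  cen5 : ∀ u ∈ D, ∀ s ∈ D, u ≠ s → s ∈ cenMod (Ce u) (L u) → ∀ j ∈ D, u ≠ j →
    j ∈ cenMod (Ce u) (L u) → Commute s j → j ∈ cenMod (Ce s) (cmp s u)
  /-- (5.3): `M_x(L_u)` is small (`u` central modulo core) if `x ∉ K_t` for one `t` -/
  small : ∀ u ∈ D, ∀ x ∈ cenMod (Ce u) (L u), orderOf x = 2 → ∀ t ∈ L u, orderOf t = 2 → t ≠ u →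
    Commute t x → x ∉ cenMod (Ce t) (L t) → u ∈ cenMod (Ce x) (cmp x u)
  /-- the diagonal: if `b` swaps `v` and `v'` (a pair of type (0)) then `v v'` is in a 2-component of `C(b)` -/
  diag : ∀ b : G, orderOf b = 2 → ∀ v ∈ D, b * v * b⁻¹ ≠ v →
    b * v * b⁻¹ ∈ cenMod (Ce v) (L v) → ∃ N, TC (Ce b) N ∧ v * (b * v * b⁻¹) ∈ N
  /-- balance for pairs of type (0) -/
  bal : ∀ u ∈ D, ∀ s ∈ D, u ≠ s → s ∈ cenMod (Ce u) (L u) → ∀ x ∈ OC u, Commute x s → x ∈ OC s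
  /-- (SE0): if `O(C(s)) = 1`, the commuting graph on the involutions of the big component `M_s(L_u)` is
  connected -/
  se : ∀ u ∈ D, ∀ s ∈ D, u ≠ s → s ∈ cenMod (Ce u) (L u) → OC s = ⊥ → ∀ S : Set G, u ∈ S →
    (∀ t ∈ S, ∀ t' ∈ cmp s u, orderOf t' = 2 → Commute t t' → t' ∈ S) →
    ∀ t ∈ cmp s u, orderOf t = 2 → t ∈ S

namespace FrameC

variable {G : Type*} [Group G] (F : FrameC G)

/-- `K_u` -/
def K (u : G) : Subgroup G := cenMod (Ce u) (F.L u)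

/-- pairs of type (0) -/
structure Z (u s : G) : Prop where
  left : u ∈ F.D
  right : s ∈ F.D
  ne : u ≠ s
  mem : s ∈ F.K u

/-- commuting elements of `D` which are not of type (0) (or equal) -/
structure A (u v : G) : Prop where
  left : u ∈ F.D
  right : v ∈ F.D
  comm : Commute u v
  nz : ¬ F.Z u v

end FrameC

end Cfsg.Agent.UGT.I34.WOneC
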