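import Cfsg.Agent.UGT.I34.WOneC.Block

/-!
Fusion of products of independent sets (5b.4 in a `FrameC`).
-/

set_option autoImplicit false
set_option linter.unusedSectionVars false

namespace Cfsg.Agent.UGT.I34.WOneC

open Subgroup Cfsg
open Cfsg.Agent.SignalizersComponents
open Cfsg.Agent.SignalizersComponents.PLayerAut
open Cfsg.Agent.SignalizersComponents.IntrinsicBasic
open Cfsg.Agent.SignalizersComponents.RelSylow
open Cfsg.Agent.Intrinsic.WOneA (Ce OC mem_Ce mul_self_of_order ne_one_of_order order_two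
  inv_eq_of_order pow_of_order orderOf_cj conj_eq_of_commute commute_of_conj_eq normalizes dihedral
  lcj mem_lcj length_lcj prod_lcj commute_prod lset isMaxP_of_card IsMaxP.card_le card_cj
  IsMaxP.inf_of_normalizes mem_sup_of_normalizes exists_commuting_conj)

namespace FrameC

variable {G : Type*} [Group G] [Finite G] {F : FrameC G} {T : Subgroup G} {V : List G}

namespace Block

theorem exists_other (hB : Block F T V) (v : G) : ∃ s ∈ V, s ≠ v :=
  exists_other_of_two hB.ind.nodup hB.two v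

theorem commV (hB : Block F T V) {v a v' : G} (hv : v ∈ V) (haT : a ∈ T) (haL : a ∈ F.L v)
    (hv' : v' ∈ V) : Commute a v' := by
  by_cases e : v' = v
  · rw [e]; exact mem_Ce.mp (F.L_le (hB.ind.mem v hv) haL)
  · exact F.comm_LK hB.pg (hB.ind.mem v hv) haL haT (hB.ind.z hv hv' (Ne.symm e)).mem
      (hB.mem v' hv')

theorem commA (hB : Block F T V) {v w v' : G} (hv : v ∈ V) (hwT : w ∈ T) (hw : F.A v w)
    (hv' : v' ∈ V) : Commute w v' := by
  by_cases e : v' = v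
  · rw [e]; exact hw.comm.symm
  · exact hw.commute_of_Z hB.pg hwT (hB.mem v' hv') (hB.ind.z hv hv' (Ne.symm e))

/-- elements of `D ∩ T` in different blocks form a pair of type (0) -/
theorem diff (hB : Block F T V) {v v' w w' : G} (hv : v ∈ V) (hv' : v' ∈ V) (hne : v ≠ v')
    (hwT : w ∈ T) (hwv : F.A v w) (hwT' : w' ∈ T) (hwv' : F.A v' w') : F.Z w w' := by
  have h1 := (hwv.zz hB.pg hwT (hB.mem v' hv') (hB.ind.z hv hv' hne)).1
  exact (hwv'.zz hB.pg hwT' hwT h1.symm).1.symm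

theorem same (hB : Block F T V) {v w w' : G} (hv : v ∈ V) (hwT : w ∈ T) (hwv : F.A v w)
    (hwT' : w' ∈ T) (hwv' : F.A v w') (hc : Commute w w') : F.A w w' := by
  obtain ⟨s, hs, hsv⟩ := hB.exists_other v
  have hz := hB.ind.z hv hs (Ne.symm hsv)
  obtain ⟨h1, h2, -⟩ := hwv.zz hB.pg hwT (hB.mem s hs) hz
  obtain ⟨-, -, h3⟩ := hwv'.zz hB.pg hwT' (hB.mem s hs) hz
  rw [← h2] at h3
  exact A.of_cmp hwv.right h1.mem (F.ord s h1.right) h3 (F.ord w' hwv'.right) hc.symm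

/-- an element `w` of the block of `v` which is centralized by a Sylow 2-subgroup of `L v` is `v` -/
theorem eq_of_A (hB : Block F T V) {v w : G} (hv : v ∈ V) (hw : F.A v w)
    (h : ∀ p ∈ T, p ∈ F.L v → Commute p w) : w = v := by
  by_contra hne
  obtain ⟨p, hp, hpc⟩ := F.sylow v hw.left w hw.right hw.comm.symm (hw.notMem_K (Ne.symm hne)) _
    (hB.syl v hv)
  exact hpc (h p hp.1 hp.2)

/-- `v ∈ V` is the only conjugate of `v` under `T` in its block -/
theorem eq_of_conj (hB : Block F T V) {v b : G} (hv : v ∈ V) (hb : b ∈ T)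
    (h : F.A v (b * v * b⁻¹)) : b * v * b⁻¹ = v := by
  have hvD := hB.ind.mem v hv
  obtain ⟨v₁, hv₁⟩ : ∃ v₁, v₁ = b * v * b⁻¹ := ⟨_, rfl⟩
  rw [← hv₁] at h ⊢
  have hv₁D : v₁ ∈ F.D := h.right
  have hv₁T : v₁ ∈ T := hv₁ ▸ T.mul_mem (T.mul_mem hb (hB.mem v hv)) (T.inv_mem hb)
  have hB' := hB.cj b
  have hbT : IntrinsicBasic.cj b T = T := cj_eq_self_of_mem hb
  rw [hbT] at hB'
  have hv₁V : v₁ ∈ lcj b V := mem_lcj.mpr ⟨v, hv, hv₁.symm⟩
  obtain ⟨s, hs, hsv⟩ := hB.exists_other v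
  obtain ⟨h1, h2, -⟩ := h.zz hB.pg hv₁T (hB.mem s hs) (hB.ind.z hv hs (Ne.symm hsv))
  refine (hB'.eq_of_A hv₁V h.symm fun p hpT hpL => ?_).symm
  -- `p ∈ T ∩ L v₁` is in `M_s(L_v)`, hence commutes with `v`
  obtain ⟨n, hn⟩ := two_pow_of_mem hB.pg hpT
  have h3 := h1.mem_cmp hpL hn (F.comm_LK hB.pg hv₁D hpL hpT h1.mem (hB.mem s hs))
  rw [h2] at h3
  exact hB.cenB v hv s hs (Ne.symm hsv) p hpT h3 v hv

end Block

/-- the setting of 5b.4 -/
structure Fus (F : FrameC G) (T T' : Subgroup G) (b : G) (J : List G) : Prop where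
  pg' : IsPGroup 2 T'
  hb : b ∈ T
  b2 : orderOf b = 2
  ind : F.Ind J
  prod : J.prod = b
  mem' : ∀ j ∈ J, j ∈ T'
  cen : ∀ x ∈ T, Commute x b → x ∈ T'

variable {T' : Subgroup G} {b : G} {J : List G}

/-- 5b.4, step 1 -/
theorem Fus.no_swap (h : Fus F T T' b J) {v : G} (hvT : v ∈ T)
    (hz : F.Z v (b * v * b⁻¹)) : False := by
  obtain ⟨v', hv'⟩ : ∃ v', v' = b * v * b⁻¹ := ⟨_, rfl⟩
  rw [← hv'] at hz
  have hvD := hz.left
  have hv'D := hz.right
  have hbb := mul_self_of_order h.b2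
  have hbi := inv_eq_of_order h.b2
  obtain ⟨N, hN, hcN⟩ := F.diag b h.b2 v hvD (by rw [← hv']; exact hz.ne.symm)
    (by rw [← hv']; exact hz.mem)
  rw [← hv'] at hcN
  obtain ⟨c, hc⟩ : ∃ c, c = v * v' := ⟨_, rfl⟩
  rw [← hc] at hcN
  have hc2 : orderOf c = 2 := hc ▸ hz.orderOf_mul
  have hcD : c ∉ F.D := hc ▸ F.prod v hvD v' hv'D hz.ne hz.mem
  have hbv' : b * v' * b⁻¹ = v := by
    rw [hv', hbi]
    calc b * (b * v * b) * b = (b * b) * v * (b * b) := by group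
      _ = v := by rw [hbb, one_mul, mul_one]
  have hbc : b * c * b⁻¹ = c := by
    rw [hc]
    calc b * (v * v') * b⁻¹ = (b * v * b⁻¹) * (b * v' * b⁻¹) := by group
      _ = v' * v := by rw [hbv', ← hv']
      _ = v * v' := hz.comm.eq.symm
  have hcb : Commute c b := (commute_of_conj_eq hbc).symm
  have hcT : c ∈ T := by
    rw [hc, hv']
    exact T.mul_mem hvT (T.mul_mem (T.mul_mem h.hb hvT) (T.inv_mem h.hb))
  have hcT' : c ∈ T' := h.cen c hcT hcb
  have hcK : ∀ j ∈ J, c ∈ F.K j := by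
    intro j hj
    have hjD := h.ind.mem j hj
    have hbK : b ∈ F.K j := h.prod ▸ h.ind.prod_K hj
    have hM := F.cmp_comp j hjD b hbK h.b2
    have hne : F.cmp b j ≠ N := by
      rintro e
      rw [← e] at hcN
      exact hcD (F.cmp_inv j hjD b hbK h.b2 c hcN hc2)
    have h1 : c ∈ cenMod (Ce b) (F.cmp b j) := hM.le_cenMod hN hne hcN
    have hjM : j ∈ F.cmp b j := F.self_mem_cmp hjD hbK h.b2
    have h2 : Commute j c :=
      IntrinsicLemmaC.comm_of_cenMod hM.le h.pg' hjM h1 (h.mem' j hj) hcT'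
    exact F.cmp_cen j hjD b hbK h.b2 c hc2 h2.symm h1
  have hcKv : c ∈ F.K v := hc ▸ (F.K v).mul_mem (F.self_mem_K hvD) hz.mem
  have hcKv' : c ∈ F.K v' := hc ▸ (F.K v').mul_mem hz.K_right (F.self_mem_K hv'D)
  have hMv := F.cmp_comp v hvD c hcKv hc2
  have hbn : b ∈ normalizer (F.cmp c v : Set G) := by
    rw [← h.prod]
    apply list_prod_mem
    intro j hj
    have hjD := h.ind.mem j hj
    exact normalizes hMv (F.cmp_comp j hjD c (hcK j hj) hc2) (F.self_mem_cmp hjD (hcK j hj) hc2)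
  have h3 := F.cmp_conj v hvD c hcKv hc2 b
  rw [hbc, ← hv', mem_normalizer_iff_cj.mp hbn] at h3
  exact hz.cmp_ne hc2 hcKv hcKv' h3.symm

theorem Fus.comm_V (h : Fus F T T' b J) (hB : Block F T V) {v : G} (hv : v ∈ V) :
    Commute b v := by
  have hvD := hB.ind.mem v hv
  have hvT := hB.mem v hv
  have h1D : b * v * b⁻¹ ∈ F.D := F.conj v hvD b
  have h1T : b * v * b⁻¹ ∈ T := T.mul_mem (T.mul_mem h.hb hvT) (T.inv_mem h.hb)
  obtain ⟨v', hv', hvv'⟩ := hB.cov _ h1D h1T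
  have e : v' = v := by
    by_contra hne
    exact h.no_swap hvT (hB.diff hv hv' (Ne.symm hne) hvT (A.refl hvD) h1T hvv')
  rw [e] at hvv'
  exact commute_of_conj_eq (hB.eq_of_conj hv h.hb hvv')

/-- `j ∈ B`, `j = b k`, `b` normalizes `R ∈ Syl₂(B)` and `k` centralizes `R` modulo `N`: `j ∈ R N` -/
theorem mem_of_sylow {B R N T T' : Subgroup G} {j b : G}
    (hR : IsMaxP 2 B R) (hNB : N ≤ B) (hodd : Odd (Nat.card N)) (hj : j ∈ B) (hjj : j * j = 1)
    (hBN : B ≤ normalizer (N : Set G)) (hbN : b ∈ normalizer (N : Set G))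
    (hbR : ∀ x ∈ R, b * x * b⁻¹ ∈ R) (hjR : ∀ x ∈ R, j * x * j⁻¹ ∈ R ⊔ N)
    (hbj : Commute b j) (hRT : R ≤ T) (hT' : IsPGroup 2 T')
    (hcen : ∀ x ∈ T, Commute x b → x ∈ T') (hjT' : j ∈ T') : j ∈ T := by
  have hRN : R ≤ normalizer (N : Set G) := hR.2.1.trans hBN
  have hjn : j ∈ normalizer ((R ⊔ N : Subgroup G) : Set G) := by
    have hle : IntrinsicBasic.cj j (R ⊔ N) ≤ R ⊔ N := by
      rw [cj_def, Subgroup.map_sup]
      refine sup_le ?_ ?_
      · rintro _ ⟨x, hx, rfl⟩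
        exact hjR x hx
      · have h1 := mem_normalizer_iff_cj.mp (hBN hj)
        rw [cj_def] at h1
        rw [h1]
        exact le_sup_right
    rw [mem_normalizer_iff_cj]
    exact Subgroup.eq_of_le_of_card_ge hle (card_cj j _).ge
  have hRNB : R ⊔ N ≤ B := sup_le hR.2.1 hNB
  have hjRN : j ∈ R ⊔ N := by
    obtain ⟨W, hW⟩ : ∃ W, W = (R ⊔ N) ⊔ zpowers j := ⟨_, rfl⟩
    have hWB : W ≤ B := hW ▸ sup_le hRNB ((zpowers_le).mpr hj)
    have hWn : W ≤ normalizer ((R ⊔ N : Subgroup G) : Set G) :=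
      hW ▸ sup_le le_normalizer ((zpowers_le).mpr hjn)
    have hRNW : R ⊔ N ≤ W := hW ▸ le_sup_left
    have hRW : IsMaxP 2 W R :=
      ⟨hR.1, le_sup_left.trans hRNW, fun Q h1 h2 h3 => hR.2.2 Q h1 (h2.trans hWB) h3⟩
    have hidx : ¬ 2 ∣ (R ⊔ N).relIndex W := by
      have : Fact (Nat.Prime 2) := ⟨Nat.prime_two⟩
      have h1 := hRW.not_dvd_index
      rw [← Subgroup.relIndex_mul_relIndex R (R ⊔ N) W le_sup_left hRNW] at h1
      exact fun h2 => h1 (dvd_mul_of_dvd_right h2 _)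
    have hjW : j ∈ W := hW ▸ mem_sup_right (mem_zpowers j)
    have hnorm : ((R ⊔ N).subgroupOf W).Normal := normal_subgroupOf_of_le_normalizer hWn
    have h1 : (QuotientGroup.mk' ((R ⊔ N).subgroupOf W) ⟨j, hjW⟩) = 1 := by
      have h2 : orderOf (QuotientGroup.mk' ((R ⊔ N).subgroupOf W) ⟨j, hjW⟩) ∣ 2 := by
        apply orderOf_dvd_of_pow_eq_one
        rw [← map_pow]
        have : (⟨j, hjW⟩ : W) ^ 2 = 1 := by
          apply Subtype.ext
          rw [pow_two]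
          exact hjj
        rw [this, map_one]
      have h3 : orderOf (QuotientGroup.mk' ((R ⊔ N).subgroupOf W) ⟨j, hjW⟩) ∣
          (R ⊔ N).relIndex W := orderOf_dvd_natCard _
      rcases (Nat.dvd_prime Nat.prime_two).mp h2 with h4 | h4
      · exact orderOf_eq_one_iff.mp h4
      · rw [h4] at h3; exact absurd h3 hidx
    have h2 := (QuotientGroup.eq_one_iff _).mp h1
    exact h2
  obtain ⟨τ, hτ, o, ho, hτo⟩ := mem_sup_of_normalizes hRN hjRN
  -- `τ` commutes with `b`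
  have hτb : Commute τ b := by
    have h1 : τ⁻¹ * (b * τ * b⁻¹) ∈ N := by
      have h2 : b * j * b⁻¹ = j := conj_eq_of_commute hbj
      rw [← hτo] at h2
      have h3 : b * o * b⁻¹ ∈ N := (mem_normalizer_iff.mp hbN o).mp ho
      have e : τ⁻¹ * (b * τ * b⁻¹) = o * (b * o * b⁻¹)⁻¹ := by
        have h4 : b * τ * b⁻¹ = τ * o * (b * o * b⁻¹)⁻¹ := by
          calc b * τ * b⁻¹ = (b * (τ * o) * b⁻¹) * (b * o * b⁻¹)⁻¹ := by group
            _ = τ * o * (b * o * b⁻¹)⁻¹ := by rw [h2]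
        rw [h4]; group
      rw [e]
      exact N.mul_mem ho (N.inv_mem h3)
    have h2 : τ⁻¹ * (b * τ * b⁻¹) ∈ R := R.mul_mem (R.inv_mem hτ) (hbR τ hτ)
    obtain ⟨k, hk⟩ := two_pow_of_mem hR.1 h2
    have h3 := eq_one_of_mem_odd hodd h1 hk
    exact (commute_of_conj_eq (inv_mul_eq_one.mp h3).symm).symm
  have hτT : τ ∈ T := hRT hτ
  have hτT' : τ ∈ T' := hcen τ hτT hτb
  have hoT' : o ∈ T' := by
    have e : o = τ⁻¹ * j := by rw [← hτo]; group
    rw [e]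
    exact T'.mul_mem (T'.inv_mem hτT') hjT'
  obtain ⟨k, hk⟩ := two_pow_of_mem hT' hoT'
  have ho1 := eq_one_of_mem_odd hodd ho hk
  rw [ho1, mul_one] at hτo
  rw [← hτo]
  exact hτT

/-- 5b.4, step 2 -/
theorem Fus.mem_of_block (h : Fus F T T' b J) (hB : Block F T V) {V' : List G}
    (hB' : Block F T' V') {v : G} (hv : v ∈ V) {j₀ : G} (hj₀ : j₀ ∈ J) {p : G} (hp : p ∈ V')
    (hvp : F.A p v) (hjp : F.A p j₀) : j₀ ∈ T := by
  have hvD := hB.ind.mem v hv
  have hvT := hB.mem v hv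
  have hbv := h.comm_V hB hv
  have hVT' : ∀ v ∈ V, v ∈ T' := fun v hv => h.cen v (hB.mem v hv) (h.comm_V hB hv).symm
  have hvT' : v ∈ T' := hVT' v hv
  have hj₀D := h.ind.mem j₀ hj₀
  have hj₀T' := h.mem' j₀ hj₀
  obtain ⟨J', hJ', hperm, hprod⟩ := h.ind.erase hj₀
  obtain ⟨_, hzJ', hJ'i⟩ := hJ'.of_cons
  have hJ'J : ∀ j ∈ J', j ∈ J := fun j hj => hperm.mem_iff.mpr (List.mem_cons_of_mem _ hj)
  -- the other members are of type (0) with `v`
  have hK : ∀ j ∈ J', j ∈ F.K v := by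
    intro j hj
    have hjD := h.ind.mem j (hJ'J j hj)
    have hjT' := h.mem' j (hJ'J j hj)
    obtain ⟨q, hq, hjq⟩ := hB'.cov j hjD hjT'
    have hqp : q ≠ p := by
      rintro rfl
      exact (hB'.same hq hj₀T' hjp hjT' hjq (hzJ' j hj).comm).nz (hzJ' j hj)
    exact (hB'.diff hp hq (Ne.symm hqp) hvT' hvp hjT' hjq).mem
  obtain ⟨k₀, hk₀⟩ : ∃ k₀, k₀ = J'.prod := ⟨_, rfl⟩
  have hk₀K : k₀ ∈ F.K v := hk₀ ▸ list_prod_mem hK
  have hbk : b = j₀ * k₀ := by rw [← h.prod, hprod, hk₀]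
  by_cases hk1 : k₀ = 1
  · have : j₀ = b := by rw [hbk, hk1, mul_one]
    rw [this]; exact h.hb
  have hk₀v : Commute k₀ v := mem_Ce.mp (F.K_le v hk₀K)
  have hj₀k₀ : Commute j₀ k₀ := hk₀ ▸ commute_prod fun j hj => (hzJ' j hj).comm
  have hk₀sq : k₀ * k₀ = 1 := hk₀ ▸ hJ'i.sq
  have hj₀eq : j₀ = b * k₀ := by rw [hbk, mul_assoc, hk₀sq, mul_one]
  have hj₀v : Commute j₀ v := by rw [hj₀eq]; exact hbv.mul_left hk₀v
  have hj₀L : F.A v j₀ := hB'.same hp hvT' hvp hj₀T' hjp hj₀v.symm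
  have hbj₀ : Commute b j₀ := by
    rw [hbk]; exact (Commute.refl j₀).mul_left hj₀k₀.symm
  obtain ⟨s, hs, hsv⟩ := hB.exists_other v
  have hz := hB.ind.z hv hs (Ne.symm hsv)
  have hbs := h.comm_V hB hs
  obtain ⟨-, -, hj₀M⟩ := hj₀L.zz h.pg' hj₀T' (hVT' s hs) hz
  have hM := F.cmp_comp v hvD s hz.mem (F.ord s hz.right)
  have hj₀s : Commute j₀ s := mem_Ce.mp (hM.le hj₀M)
  have hk₀s : Commute k₀ s := by
    have e : k₀ = j₀⁻¹ * b := by rw [hbk]; group
    rw [e]; exact hj₀s.inv_left.mul_left hbs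
  -- `s` commutes with the members of `J'`
  have hsJ : ∀ j ∈ J', Commute s j := by
    intro j hj
    have hsD := hB.ind.mem s hs
    have hsT' := hVT' s hs
    have hjD := h.ind.mem j (hJ'J j hj)
    have hjT' := h.mem' j (hJ'J j hj)
    obtain ⟨q, hq, hjq⟩ := hB'.cov j hjD hjT'
    obtain ⟨r, hr, hsr⟩ := hB'.cov s hsD hsT'
    by_cases e : r = q
    · subst e
      obtain ⟨J'', hJ'', hperm', hprod'⟩ := hJ'i.erase hj
      obtain ⟨_, hzJ'', _⟩ := hJ''.of_cons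
      have hsJ'' : Commute s J''.prod := by
        apply commute_prod
        intro i hi
        have hiJ' : i ∈ J' := hperm'.mem_iff.mpr (List.mem_cons_of_mem _ hi)
        have hiD := h.ind.mem i (hJ'J i hiJ')
        have hiT' := h.mem' i (hJ'J i hiJ')
        obtain ⟨t, ht, hit⟩ := hB'.cov i hiD hiT'
        have hrt : r ≠ t := by
          rintro rfl
          exact (hB'.same hq hjT' hjq hiT' hit (hzJ'' i hi).comm).nz (hzJ'' i hi)
        exact (hB'.diff hr ht hrt hsT' hsr hiT' hit).comm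
      have h3 : Commute s (j * J''.prod) := by rw [← hprod', ← hk₀]; exact hk₀s.symm
      have h4 := h3.mul_right hsJ''.inv_right
      rwa [mul_inv_cancel_right] at h4
    · exact (hB'.diff hr hq e hsT' hsr hjT' hjq).comm
  -- `R = T ∩ M_s(L_v)`
  obtain ⟨R, hR⟩ : ∃ R, R = T ⊓ F.cmp s v := ⟨_, rfl⟩
  obtain ⟨N, hN⟩ : ∃ N, N = OC s ⊓ F.cmp s v := ⟨_, rfl⟩
  have hRmax : IsMaxP 2 (F.cmp s v) R := hR ▸ hB.sylB v hv s hs (Ne.symm hsv)
  have hOn : Ce s ≤ normalizer (OC s : Set G) :=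
    le_normalizer.trans (normalizer_le_normalizer_relCore 2 _)
  have hMn : ∀ c : G, Commute c v → Commute c s → c ∈ normalizer (F.cmp s v : Set G) := by
    intro c h1 h2
    rw [mem_normalizer_iff_cj]
    have h3 := F.cmp_conj v hz.left s hz.mem (F.ord s hz.right) c
    rw [conj_eq_of_commute h1, conj_eq_of_commute h2] at h3
    exact h3.symm
  have hNn : ∀ c : G, c ∈ normalizer (F.cmp s v : Set G) → Commute c s →
      c ∈ normalizer (N : Set G) := by
    intro c h1 h2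
    have h3 := mem_normalizer_iff_cj.mp h1
    have h4 := mem_normalizer_iff_cj.mp (hOn (mem_Ce.mpr h2))
    rw [mem_normalizer_iff_cj, hN]
    ext x
    rw [mem_cj, mem_inf, mem_inf, ← mem_cj, ← mem_cj, h3, h4]
  have hNodd : Odd (Nat.card N) :=
    Odd.of_dvd_nat (odd_card_relCore (Ce s)) (card_dvd_of_le (hN ▸ inf_le_left))
  have hbM := hMn b hbv hbs
  have hkM := hMn k₀ hk₀v hk₀s
  have hRb : ∀ x ∈ R, b * x * b⁻¹ ∈ R := by
    intro x hx
    rw [hR] at hx ⊢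
    exact ⟨T.mul_mem (T.mul_mem h.hb hx.1) (T.inv_mem h.hb), (mem_normalizer_iff.mp hbM x).mp hx.2⟩
  -- `k₀` centralizes `R` modulo `N`
  have hk₀N : ∀ x ∈ R, x⁻¹ * (k₀ * x * k₀⁻¹) ∈ N := by
    intro x hx
    have hxM := hRmax.2.1 hx
    rw [hN]
    refine ⟨?_, (F.cmp s v).mul_mem ((F.cmp s v).inv_mem hxM)
      ((mem_normalizer_iff.mp hkM x).mp hxM)⟩
    have h1 : k₀ ∈ cenMod (Ce s) (F.cmp s v) := by
      rw [hk₀]
      apply list_prod_mem
      intro j hj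
      have hzj : F.Z v j := by
        refine ⟨hvD, h.ind.mem j (hJ'J j hj), ?_, hK j hj⟩
        rintro rfl
        exact (hj₀L.symm).nz (hzJ' _ hj)
      exact hz.cen hzj (hsJ j hj)
    exact ((mem_cenMod hM.le).mp h1).2 x hxM
  have hj₀R : ∀ x ∈ R, j₀ * x * j₀⁻¹ ∈ R ⊔ N := by
    intro x hx
    have e : j₀ * x * j₀⁻¹ = (b * x * b⁻¹) * (b * (x⁻¹ * (k₀ * x * k₀⁻¹)) * b⁻¹) := by
      rw [hj₀eq]; group
    rw [e]
    refine mul_mem (mem_sup_left (hRb x hx)) (mem_sup_right ?_)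
    exact (mem_normalizer_iff.mp (hNn b hbM hbs) _).mp (hk₀N x hx)
  exact mem_of_sylow hRmax (hN ▸ inf_le_right) hNodd hj₀M (mul_self_of_order (F.ord j₀ hj₀D))
    (fun c hc => hNn c (le_normalizer hc) (mem_Ce.mp (hM.le hc))) (hNn b hbM hbs) hRb hj₀R hbj₀
    (hR ▸ inf_le_left) h.pg' h.cen hj₀T'

/-- 5b.4 -/
theorem Fus.mem (h : Fus F T T' b J) (hB : Block F T V) {V' : List G}
    (hB' : Block F T' V') : ∀ j ∈ J, j ∈ T := by
  intro j hj
  have hjD := h.ind.mem j hj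
  have hjT' := h.mem' j hj
  obtain ⟨q, hq, hjq⟩ := hB'.cov j hjD hjT'
  by_contra hcon
  have hz : ∀ v ∈ V, F.Z j v := by
    intro v hv
    have hvD := hB.ind.mem v hv
    have hvT' : v ∈ T' := h.cen v (hB.mem v hv) (h.comm_V hB hv).symm
    obtain ⟨p, hp, hvp⟩ := hB'.cov v hvD hvT'
    have hpq : q ≠ p := by
      rintro rfl
      exact hcon (h.mem_of_block hB hB' hv hj hp hvp hjq)
    exact hB'.diff hq hp hpq hjT' hjq hvT' hvp
  have h3 := hB.max (j :: V) (hB.ind.cons hjD hz)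
  rw [List.length_cons] at h3
  omega

end FrameC

end Cfsg.Agent.UGT.I34.WOneC
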