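import Cfsg.Agent.UGT.I34.WOneC.OfWOne
import Cfsg.Agent.UGT.I34.WOneC.Functor

/-!
# I34 [A]: world W1a is empty

`false_of_zero`: in a simple group the world W1 (with the facts `TgtA κ` on the targets, (5.2), `ExY`, `CcMul`,
`Syl κ`) has no pairs of type (0), modulo Aschbacher's criterion S1175 and the odd order theorem.
-/

set_option autoImplicit false
set_option linter.unusedSectionVars false

open Cfsg Subgroup
open Cfsg.Agent.SignalizersComponents Cfsg.Agent.Lib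
open Cfsg.Agent.SignalizersComponents.IntrinsicBasic
open Cfsg.Agent.SignalizersComponents.PLayerAut
open Cfsg.Agent.SignalizersComponents.RelSylow
open Cfsg.Agent.Intrinsic
open Cfsg.Agent.Intrinsic.Basic hiding IsPair PQS Target IsPair.sq IsPair.ne_one IsPair.cj
open Cfsg.Agent.Intrinsic.Cen hiding pair_comm pair_mem_cen exists_pump pump_unique
open Cfsg.Agent.Intrinsic.Quot hiding Big isPair_quot small_or_big
open Cfsg.Agent.UGT.I34.Pair Cfsg.Agent.UGT.I34.KF Cfsg.Agent.UGT.I34.WOne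
open Cfsg.Agent.McLLyComp.Act (fixes_mul)
open Cfsg.Agent.Intrinsic.WOneA (Ce OC)

namespace Cfsg.Agent.UGT.I34.WOneC.Glue

open Cfsg.Agent.UGT.I34.WOneC.Five Cfsg.Agent.UGT.I34.WOneC.Cc Cfsg.Agent.UGT.I34.WOneC.Tg
  Cfsg.Agent.UGT.I34.WOneC.OfWOne

universe v

variable {G : Type v} [Group G] [Finite G] {κ : Kind.{v}} {τ : Bool} {D : Set G} {L : G → Subgroup G}

theorem se (hA : TgtA κ) (h : W1 κ τ D L) (h52 : FxOr D L) {u s : G} (hu : u ∈ D) (hs : s ∈ D)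
    (hne : u ≠ s) (hK : s ∈ cenMod (Ce u) (L u)) (hO : OC s = ⊥) {S : Set G} (hS : u ∈ S)
    (hstep : ∀ t ∈ S, ∀ t' ∈ pump s (L u), orderOf t' = 2 → Commute t t' → t' ∈ S) {t : G}
    (ht : t ∈ pump s (L u)) (ht2 : orderOf t = 2) : t ∈ S := by
  obtain ⟨h1, h2⟩ := (mem_K h hu).mp hK
  have hp := h.pair hu
  have hss := h.sq hs
  have hB : IsBig κ u (L u) s := isBig_of_zero h h52 hu hs hne.symm h1 h2
  have hcomp := pump_comp hp hss h1 h2
  have huM := mem_pump hp hss h1 h2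
  have huJ := pair_mem_cen hp h1
  have hJM := isComp_cen_inf hp hss h1 h2
  have hk := (kind_cen hp.comp (mem_centralizer_singleton_iff.mpr h1) hss h2).mpr hp.kind
  obtain ⟨M, hM⟩ : ∃ M, M = pump s (L u) := ⟨_, rfl⟩
  obtain ⟨huM', hT⟩ := id hB
  have hpq := isPair_quot hp.sq hp.ne_one huJ huM' hJM hk
  have hSE := hA.no_se _ _ _ hT hpq
  rw [← hM] at hcomp huM ht hstep hSE
  have hcore : core M = ⊥ := by
    rw [eq_bot_iff, ← hO]
    exact hcomp.core_le_core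
  have hmk2 : ∀ x (hx : x ∈ M) y (hy : y ∈ M), (QuotientGroup.mk ⟨x, hx⟩ : ↥M ⧸ oddCore ↥M) =
      QuotientGroup.mk ⟨y, hy⟩ → x = y := by
    intro x hx y hy e
    rw [mk_eq_mk_iff', hcore, mem_bot] at e
    exact inv_mul_eq_one.mp e
  have hord : ∀ x (hx : x ∈ M), orderOf (QuotientGroup.mk ⟨x, hx⟩ : ↥M ⧸ oddCore ↥M) = 2 ↔
      orderOf x = 2 := by
    intro x hx
    have key : ∀ x (hx : x ∈ M), (x * x = 1 ∧ x ≠ 1) ↔
        ((QuotientGroup.mk ⟨x, hx⟩ : ↥M ⧸ oddCore ↥M) * QuotientGroup.mk ⟨x, hx⟩ = 1 ∧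
          (QuotientGroup.mk ⟨x, hx⟩ : ↥M ⧸ oddCore ↥M) ≠ 1) := by
      intro x hx
      constructor
      · rintro ⟨h3, h4⟩
        refine ⟨?_, fun e => h4 (hmk2 x hx 1 M.one_mem e)⟩
        change (QuotientGroup.mk ⟨x * x, M.mul_mem hx hx⟩ : ↥M ⧸ oddCore ↥M) = 1
        rw [mk_eq_one_iff, h3]
        exact one_mem _
      · rintro ⟨h3, h4⟩
        refine ⟨hmk2 (x * x) (M.mul_mem hx hx) 1 M.one_mem h3, ?_⟩
        rintro rfl
        exact h4 rfl
    constructor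
    · intro h3
      obtain ⟨h4, h5⟩ := (key x hx).mpr ⟨sq_of h3, ne_of h3⟩
      exact order_two h4 h5
    · intro h3
      obtain ⟨h4, h5⟩ := (key x hx).mp ⟨sq_of h3, ne_of h3⟩
      exact orderOf_eq_prime (by rw [pow_two, h4]) h5
  have hfin := Graph.mem_of_no_se hSE (S := {x | ∃ t ∈ S, ∃ ht : t ∈ M, QuotientGroup.mk ⟨t, ht⟩ = x})
    (u := (QuotientGroup.mk ⟨u, huM⟩ : ↥M ⧸ oddCore ↥M)) ((hord u huM).mpr (h.pair hu).inv)
    ⟨u, hS, huM, rfl⟩ (by
      rintro _ ⟨a, haS, haM, rfl⟩ b hb2 hab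
      obtain ⟨⟨b, hbM⟩, rfl⟩ := QuotientGroup.mk_surjective b
      refine ⟨b, hstep a haS b hbM ((hord b hbM).mp hb2) ?_, hbM, rfl⟩
      exact hmk2 (a * b) (M.mul_mem haM hbM) (b * a) (M.mul_mem hbM haM) hab) ((hord t ht).mpr ht2)
  obtain ⟨a, haS, haM, e⟩ := hfin
  rwa [← hmk2 a haM t ht e]

/-- the record `FrameC` from the world W1 -/
noncomputable def frame (hA : TgtA κ) (hSyl : Syl κ) (h : W1 κ τ D L) (h52 : FxOr D L)
    (hY : ExY D L) (hcc : CcMul D L) : FrameC G where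
  D := D
  L := L
  cmp := cmpF L
  ord := ord h
  conj := fun _ hu g => h.conj hu g
  one_class := fun _ hu _ hv => h.one_class hu hv
  L_conj := fun _ hu g => h.L_conj hu g
  L_comp := fun _ hu => (h.comp hu).tc
  self_mem := fun _ hu => h.mem hu
  invol := invol h
  inf_eq := inf_eq h
  symm := symm h
  prod := fun u hu v hv hne hK hD => by
    obtain ⟨h1, h2⟩ := (mem_K h hu).mp hK
    refine mul_notMem h h52 hu hv hne.symm h1 h2 ?_
    rw [h1]; exact hD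
  prodC := fun u hu v hv hc hL hK =>
    C.mul_mem h ⟨hu, hv, hc.symm.eq, hL, fun hf => hK ((mem_K h hu).mpr ⟨hc.symm.eq, hf⟩)⟩
  exists_inv := exists_inv h
  sylow := sylow hSyl h
  cmp_comp := cmp_comp h
  cmp_self := fun u _ => cmpF_self L u
  cmp_conj := cmp_conj h
  mem_cmp := mem_cmp h
  memC := fun u hu s hs hne hK v hv hvu hvs hvK => by
    obtain ⟨h1, h2⟩ := (mem_K h hu).mp hK
    rw [cmpF_of_ne L hne.symm]
    by_cases hvL : v ∈ L u
    · exact mem_pump_of_mem (h.pair hu) (h.sq hs) h1 h2 hvL hvs.eq (k := 1)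
        (by rw [pow_one, pow_two, h.sq hv])
    · exact mem_pump_of_C h h52 hY hcc hs hne.symm h1 h2
        ⟨hu, hv, hvu.eq, hvL, fun hf => hvK ((mem_K h hu).mpr ⟨hvu.eq, hf⟩)⟩ hvs.eq
  of_cmp := of_cmp h (ofCmp hA h)
  cmp_inv := cmp_inv h
  cmp_cen := cmp_cen h
  big := big h h52
  cen5 := fun u hu s hs hne hK j hj hnej hjK hsj => by
    obtain ⟨h1, h2⟩ := (mem_K h hu).mp hK
    obtain ⟨h3, h4⟩ := (mem_K h hu).mp hjK
    rw [cmpF_of_ne L hne.symm]
    refine ((pump_comp (h.pair hu) (h.sq hs) h1 h2).fixes_iff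
      (mem_centralizer_singleton_iff.mpr hsj.symm.eq)).mp ?_
    exact fixes_pump h h52 hY hcc (ofCmp hA h) hu hs hne.symm h1 h2 hj hnej.symm h3 h4 hsj.eq
  small := small h
  diag := diag h
  bal := fun u hu s hs hne hK x hx hxs => by
    obtain ⟨h1, h2⟩ := (mem_K h hu).mp hK
    exact Tg.bal hA (h.pair hu) (h.sq hs) h1 h2 (isBig_of_zero h h52 hu hs hne.symm h1 h2) hx hxs.eq
  se := by
    intro u hu s hs hne hK hO S hS hstep t ht ht2
    rw [cmpF_of_ne L hne.symm] at hstep ht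
    exact se hA h h52 hu hs hne hK hO hS hstep ht ht2

/-- **World W1a is empty.** -/
theorem false_of_zero [IsSimpleGroup G] (FT : Functor.OddSol G) (hAs : WOneA.Asch G) (hA : TgtA κ)
    (hSyl : Syl κ) (h : W1 κ τ D L) (h52 : FxOr D L) (hY : ExY D L) (hcc : CcMul D L) {u s : G}
    (hu : u ∈ D) (hs : s ∈ D) (hsu : s ≠ u) (hus : s * u = u * s) (hf : Fixes s (L u)) : False :=
  WOneC.Functor.false_of_frameC FT hAs (frame hA hSyl h h52 hY hcc) (u := u) (s := s)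
    ⟨hu, hs, hsu.symm, (mem_K h hu).mpr ⟨hus, hf⟩⟩

end Cfsg.Agent.UGT.I34.WOneC.Glue
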