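import Mathlib
import Cfsg.Prelude.Def_Involutions
import Cfsg.Agent.SignalizersComponents.RelSylow

/-!
# The commuting graph of a group without strongly embedded subgroups is connected
-/

set_option autoImplicit false

open Cfsg Subgroup
open Cfsg.Agent.SignalizersComponents.RelSylow

namespace Cfsg.Agent.UGT.I34.WOneC.Graph

variable {X : Type*} [Group X]

/-- `b` is an involution commuting with `a` -/
def Adj (a b : X) : Prop := orderOf b = 2 ∧ Commute a b

/-- connected by commuting involutions -/
def Path (a b : X) : Prop := Relation.ReflTransGen Adj a b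

theorem orderOf_cj (g x : X) : orderOf (g * x * g⁻¹) = orderOf x := by
  have := orderOf_injective (MulAut.conj g).toMonoidHom (MulAut.conj g).injective x
  simpa using this

theorem Path.conj {a b : X} (h : Path a b) (g : X) : Path (g * a * g⁻¹) (g * b * g⁻¹) := by
  induction h with
  | refl => exact Relation.ReflTransGen.refl
  | tail _ hbc ih =>
    refine ih.tail ⟨?_, ?_⟩
    · rw [orderOf_cj, hbc.1]
    · exact (Commute.map hbc.2 (MulAut.conj g).toMonoidHom : _)

theorem Path.symm {a b : X} (h : Path a b) (ha : orderOf a = 2) : Path b a := by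
  have key : orderOf b = 2 ∧ Path b a := by
    induction h with
    | refl => exact ⟨ha, Relation.ReflTransGen.refl⟩
    | tail _ hbc ih => exact ⟨hbc.1, Relation.ReflTransGen.head ⟨ih.1, hbc.2.symm⟩ ih.2⟩
  exact key.2

theorem Path.order {a b : X} (h : Path a b) (ha : orderOf a = 2) : orderOf b = 2 := by
  induction h with
  | refl => exact ha
  | tail _ hbc _ => exact hbc.1

/-- the stabilizer of the connected component of `u` -/
def stab (u : X) (hu : orderOf u = 2) : Subgroup X where
  carrier := {g | Path u (g * u * g⁻¹)}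
  mul_mem' := by
    intro g h hg hh
    have h1 := Path.conj hh g
    have e : g * (h * u * h⁻¹) * g⁻¹ = g * h * u * (g * h)⁻¹ := by group
    rw [e] at h1
    exact Relation.ReflTransGen.trans hg h1
  one_mem' := by
    show Path u (1 * u * 1⁻¹)
    rw [one_mul, inv_one, mul_one]
    exact Relation.ReflTransGen.refl
  inv_mem' := by
    intro g hg
    have h1 := Path.conj hg g⁻¹
    have e : g⁻¹ * (g * u * g⁻¹) * g⁻¹⁻¹ = u := by group
    rw [e] at h1
    exact h1.symm (by rw [orderOf_cj, hu])

theorem mem_stab {u g : X} {hu : orderOf u = 2} : g ∈ stab u hu ↔ Path u (g * u * g⁻¹) := Iff.rfl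

theorem mem_stab_iff {u v g : X} {hu : orderOf u = 2} (h : Path u v) :
    g ∈ stab u hu ↔ Path u (g * v * g⁻¹) := by
  rw [mem_stab]
  have h1 : Path (g * u * g⁻¹) (g * v * g⁻¹) := h.conj g
  constructor
  · intro h2
    exact Relation.ReflTransGen.trans h2 h1
  · intro h2
    exact Relation.ReflTransGen.trans h2 (h1.symm (by rw [orderOf_cj, hu]))

variable [Finite X]

theorem zpowers_pgroup {x : X} (h : orderOf x = 2) : IsPGroup 2 (zpowers x) := by
  apply IsPGroup.of_card (n := 1)
  rw [Nat.card_zpowers, h]; norm_num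

/-- the involutions of the stabilizer are in the component of `u` -/
theorem path_of_mem {u : X} (hu : orderOf u = 2) {i : X} (hi : orderOf i = 2) (hiS : i ∈ stab u hu) :
    Path u i := by
  have h2 : Fact (Nat.Prime 2) := ⟨Nat.prime_two⟩
  obtain ⟨T, hT⟩ := (zpowers_pgroup hu).exists_le_sylow
  have huT : u ∈ (T : Subgroup X) := hT (mem_zpowers u)
  -- a central involution of `T`
  have hnt : Nontrivial T := ⟨⟨⟨u, huT⟩, 1, fun h => by
    have h1 : u = 1 := congrArg Subtype.val h
    rw [h1] at hu; simp at hu⟩⟩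
  have hcn : Nontrivial (center T) := T.2.center_nontrivial
  have hcp : IsPGroup 2 (center T) := T.2.to_subgroup _
  obtain ⟨n, hn⟩ := (hcp.nontrivial_iff_card).mp hcn
  have hdvd : 2 ∣ Nat.card (center T) := by
    rw [hn.2]; exact dvd_pow_self 2 hn.1.ne'
  obtain ⟨y, hy⟩ := exists_prime_orderOf_dvd_card' 2 hdvd
  obtain ⟨z, hz⟩ : ∃ z, z = ((y : T) : X) := ⟨_, rfl⟩
  have hz2 : orderOf z = 2 := by
    rw [hz, Subgroup.orderOf_coe, Subgroup.orderOf_coe]; exact hy
  have hzc : ∀ t ∈ (T : Subgroup X), Commute t z := by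
    intro t ht
    have := mem_center_iff.mp y.2 ⟨t, ht⟩
    rw [hz]
    exact congrArg Subtype.val this
  have huz : Path u z := Relation.ReflTransGen.single ⟨hz2, hzc u huT⟩
  have hTS : (T : Subgroup X) ≤ stab u hu := by
    intro t ht
    rw [mem_stab_iff huz]
    have : t * z * t⁻¹ = z := by rw [(hzc t ht).eq, mul_inv_cancel_right]
    rw [this]; exact huz
  have hmax : IsMaxP 2 (stab u hu) (T : Subgroup X) :=
    ⟨T.2, hTS, fun _ hR _ hTR => (T.3 hR hTR).le⟩
  obtain ⟨c, hc, hcT⟩ := hmax.exists_conj_le (zpowers_pgroup hi) ((zpowers_le).mpr hiS)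
  have h3 : c * i * c⁻¹ ∈ (T : Subgroup X) := hcT ⟨i, mem_zpowers i, rfl⟩
  have h4 : Path u (c * i * c⁻¹) := by
    refine huz.tail ⟨by rw [orderOf_cj, hi], (hzc _ h3).symm⟩
  have h5 : c⁻¹ ∈ stab u hu := (stab u hu).inv_mem hc
  have h6 := (mem_stab_iff h4).mp h5
  have e : c⁻¹ * (c * i * c⁻¹) * c⁻¹⁻¹ = i := by group
  rwa [e] at h6

/-- **The commuting graph is connected.** -/
theorem path_of_no_se (hSE : ∀ H : Subgroup X, ¬ IsStronglyEmbedded H) {u : X} (hu : orderOf u = 2)
    {t : X} (ht : orderOf t = 2) : Path u t := by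
  have h2 : Fact (Nat.Prime 2) := ⟨Nat.prime_two⟩
  have htop : stab u hu = ⊤ := by
    by_contra hne
    refine hSE (stab u hu) ⟨hne, ?_, ?_⟩
    · have huS : u ∈ stab u hu := by
        rw [mem_stab, mul_inv_cancel_right]
        exact Relation.ReflTransGen.refl
      rw [even_iff_two_dvd, ← hu]
      have := orderOf_dvd_natCard (⟨u, huS⟩ : stab u hu)
      rwa [← Subgroup.orderOf_coe] at this
    · intro g hg
      by_contra hodd
      rw [Nat.not_odd_iff_even, even_iff_two_dvd] at hodd
      obtain ⟨y, hy⟩ := exists_prime_orderOf_dvd_card' 2 hodd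
      have hi2 : orderOf (y : X) = 2 := by rw [Subgroup.orderOf_coe]; exact hy
      obtain ⟨h1, w, hw, hwy⟩ := y.2
      have hwy' : g * w * g⁻¹ = (y : X) := hwy
      have hw2 : orderOf w = 2 := by rw [← orderOf_cj g w, hwy', hi2]
      have h3 := path_of_mem hu hi2 h1
      have h4 := path_of_mem hu hw2 hw
      apply hg
      rw [mem_stab_iff h4, hwy']
      exact h3
  exact path_of_mem hu ht (by rw [htop]; exact mem_top _)

/-- a set of involutions closed under commuting involutions -/
theorem mem_of_no_se (hSE : ∀ H : Subgroup X, ¬ IsStronglyEmbedded H) {S : Set X} {u : X}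
    (hu : orderOf u = 2) (huS : u ∈ S)
    (hS : ∀ t ∈ S, ∀ t' : X, orderOf t' = 2 → Commute t t' → t' ∈ S) {t : X} (ht : orderOf t = 2) :
    t ∈ S := by
  have h := path_of_no_se hSE hu ht
  clear ht
  induction h with
  | refl => exact huS
  | tail _ hbc ih => exact hS _ ih _ hbc.1 hbc.2

end Cfsg.Agent.UGT.I34.WOneC.Graph
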