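import Cfsg.Agent.UGT.I34.WOneC.Tg
import Cfsg.Agent.UGT.I34.WOneC.Graph
import Cfsg.Agent.UGT.I34.WOneC.Frame
import Cfsg.Agent.Intrinsic.TypeGOne

/-!
# I34 [A]: the record `FrameC` from the world W1
-/

set_option autoImplicit false
set_option linter.unusedSectionVars false

open Cfsg Subgroup
open Cfsg.Agent.SignalizersComponents Cfsg.Agent.Lib
open Cfsg.Agent.SignalizersComponents.IntrinsicBasic
open Cfsg.Agent.SignalizersComponents.PLayerAut
open Cfsg.Agent.SignalizersComponents.RelSylow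
open Cfsg.Agent.Intrinsic
open Cfsg.Agent.Intrinsic.Basic hiding IsPair PQS Target IsPair.sq IsPair.ne_one IsPair.cj
open Cfsg.Agent.Intrinsic.Cen hiding pair_comm pair_mem_cen exists_pump pump_unique
open Cfsg.Agent.Intrinsic.Quot hiding Big isPair_quot small_or_big
open Cfsg.Agent.Intrinsic.Diag Cfsg.Agent.Intrinsic.TypeGOne
open Cfsg.Agent.UGT.I34.Pair Cfsg.Agent.UGT.I34.KF Cfsg.Agent.UGT.I34.WOne
open Cfsg.Agent.McLLyComp.Act (fixes_mul)
open Cfsg.Agent.Intrinsic.WOneA (Ce OC)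

namespace Cfsg.Agent.UGT.I34.WOneC.OfWOne

open Cfsg.Agent.UGT.I34.WOneC.Five Cfsg.Agent.UGT.I34.WOneC.Cc Cfsg.Agent.UGT.I34.WOneC.Tg

universe v

variable {G : Type v} [Group G] [Finite G] {κ : Kind.{v}} {τ : Bool} {D : Set G} {L : G → Subgroup G}

theorem sq_of {x : G} (h : orderOf x = 2) : x * x = 1 := by
  rw [← pow_two, ← h]; exact pow_orderOf_eq_one x

theorem ne_of {x : G} (h : orderOf x = 2) : x ≠ 1 := by
  rintro rfl; rw [orderOf_one] at h; omega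

theorem order_two {x : G} (h : x * x = 1) (h1 : x ≠ 1) : orderOf x = 2 :=
  orderOf_eq_prime (by rw [pow_two, h]) h1

theorem mem_K (h : W1 κ τ D L) {u : G} (hu : u ∈ D) {x : G} :
    x ∈ cenMod (Ce u) (L u) ↔ x * u = u * x ∧ Fixes x (L u) := by
  constructor
  · intro hx
    have h1 := cenMod_le _ _ hx
    exact ⟨mem_centralizer_singleton_iff.mp h1, ((h.comp hu).fixes_iff h1).mpr hx⟩
  · rintro ⟨h1, h2⟩
    exact ((h.comp hu).fixes_iff (mem_centralizer_singleton_iff.mpr h1)).mp h2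

open Classical in
/-- `M_x(L_u)` -/
noncomputable def cmpF (L : G → Subgroup G) (x u : G) : Subgroup G :=
  if x = u then L u else pump x (L u)

theorem cmpF_self (L : G → Subgroup G) (u : G) : cmpF L u u = L u := by
  unfold cmpF; rw [if_pos rfl]

theorem cmpF_of_ne (L : G → Subgroup G) {x u : G} (h : x ≠ u) : cmpF L x u = pump x (L u) := by
  unfold cmpF; rw [if_neg h]

theorem ord (h : W1 κ τ D L) : ∀ u ∈ D, orderOf u = 2 := fun _ hu => (h.pair hu).inv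

theorem invol (h : W1 κ τ D L) : ∀ u ∈ D, ∀ t ∈ L u, orderOf t = 2 → t ∈ D ∧ u ∈ L t :=
  fun _ hu _ ht ht2 => ⟨h.inv_mem hu ht (sq_of ht2) (ne_of ht2),
    h.mem_of_mem hu ht (sq_of ht2) (ne_of ht2)⟩

theorem inf_eq (h : W1 κ τ D L) : ∀ u ∈ D, ∀ t ∈ L u, orderOf t = 2 → t ∈ cenMod (Ce u) (L u) →
    t = u :=
  fun _ hu _ ht ht2 hK => h.eq_of_fixes hu ht (sq_of ht2) (ne_of ht2) ((mem_K h hu).mp hK).2

theorem symm (h : W1 κ τ D L) : ∀ u ∈ D, ∀ v ∈ D, v ∈ cenMod (Ce u) (L u) →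
    u ∈ cenMod (Ce v) (L v) := by
  intro u hu v hv hK
  obtain ⟨h1, h2⟩ := (mem_K h hu).mp hK
  exact (mem_K h hv).mpr ⟨h1.symm, h.symm hu hv h1.symm h2⟩

theorem cmp_comp (h : W1 κ τ D L) : ∀ u ∈ D, ∀ x ∈ cenMod (Ce u) (L u), orderOf x = 2 →
    TC (Ce x) (cmpF L x u) := by
  intro u hu x hx hx2
  by_cases e : x = u
  · rw [e, cmpF_self]; exact (h.comp hu).tc
  · rw [cmpF_of_ne L e]
    obtain ⟨h1, h2⟩ := (mem_K h hu).mp hx
    exact (pump_comp (h.pair hu) (sq_of hx2) h1 h2).tc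

theorem cmp_conj (h : W1 κ τ D L) : ∀ u ∈ D, ∀ x ∈ cenMod (Ce u) (L u), orderOf x = 2 →
    ∀ g : G, cmpF L (g * x * g⁻¹) (g * u * g⁻¹) = cj g (cmpF L x u) := by
  intro u hu x hx hx2 g
  by_cases e : x = u
  · rw [e, cmpF_self, cmpF_self, h.L_conj hu]
  · have e' : g * x * g⁻¹ ≠ g * u * g⁻¹ := fun e1 => e (mul_left_cancel (mul_right_cancel e1))
    rw [cmpF_of_ne L e, cmpF_of_ne L e']
    obtain ⟨h1, h2⟩ := (mem_K h hu).mp hx
    rw [h.L_conj hu]
    exact cj_pump (h.pair hu) (sq_of hx2) h1 h2 g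

theorem mem_cmp (h : W1 κ τ D L) : ∀ u ∈ D, ∀ x ∈ cenMod (Ce u) (L u), orderOf x = 2 →
    ∀ a ∈ L u, ∀ n : ℕ, a ^ 2 ^ n = 1 → Commute a x → a ∈ cmpF L x u := by
  intro u hu x hx hx2 a ha n hn hc
  by_cases e : x = u
  · rw [e, cmpF_self]; exact ha
  · rw [cmpF_of_ne L e]
    obtain ⟨h1, h2⟩ := (mem_K h hu).mp hx
    exact mem_pump_of_mem (h.pair hu) (sq_of hx2) h1 h2 ha hc hn

theorem of_cmp (h : W1 κ τ D L) (hof : OfCmp D L) : ∀ u ∈ D, ∀ x ∈ cenMod (Ce u) (L u),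
    orderOf x = 2 → ∀ a ∈ cmpF L x u, orderOf a = 2 → a ∈ cenMod (Ce u) (L u) → a = u := by
  intro u hu x hx hx2 a ha ha2 haK
  obtain ⟨h3, h4⟩ := (mem_K h hu).mp haK
  by_cases e : x = u
  · rw [e, cmpF_self] at ha
    exact h.eq_of_fixes hu ha (sq_of ha2) (ne_of ha2) h4
  · rw [cmpF_of_ne L e] at ha
    obtain ⟨h1, h2⟩ := (mem_K h hu).mp hx
    exact hof u hu x (sq_of hx2) (ne_of hx2) e h1 h2 a ha (sq_of ha2) (ne_of ha2) h3 h4

/-- every involution of `pump x (L u)` is conjugate to an involution of `L u` -/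
theorem exists_conj (h : W1 κ τ D L) {u : G} (hu : u ∈ D) {x : G} (hx2 : orderOf x = 2)
    (h1 : x * u = u * x) (h2 : Fixes x (L u)) {t : G} (ht : t ∈ pump x (L u))
    (ht2 : orderOf t = 2) : ∃ g ∈ pump x (L u), ∃ j ∈ L u, orderOf j = 2 ∧ g * j * g⁻¹ = t := by
  have htt := sq_of ht2
  rcases h.small_or_big hu (sq_of hx2) (ne_of hx2) h1 h2 with hs | hb
  · obtain ⟨j, hj, hc⟩ := exists_mul_of_sup hs ht
    have hcl := cen_le_pump (h.pair hu) (sq_of hx2) h1 h2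
    have hjM : j ∈ pump x (L u) := hcl hj
    -- the 2-part of `j`
    have hjj : j ^ 2 ^ 1 ∈ core (pump x (L u)) := by
      have e1 : j⁻¹ * t * (j⁻¹ * t) ∈ core (pump x (L u)) := mul_mem hc hc
      have e2 : t * (j⁻¹ * t) * t⁻¹ ∈ core (pump x (L u)) :=
        conj_mem_core (le_normalizer ht) hc
      have e3 : (j⁻¹ * t) * (t * (j⁻¹ * t) * t⁻¹) = j⁻¹ * (t * t) * j⁻¹ := by group
      have e4 := mul_mem hc e2
      rw [e3, htt, mul_one] at e4
      have e5 := inv_mem e4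
      rw [pow_one, pow_two]
      simpa using e5
    obtain ⟨k, hk, hkc⟩ := Lifting.exists_two_part (odd_card_core (pump x (L u))) hjj
    have hkc' : (j ^ k)⁻¹ * t ∈ core (pump x (L u)) := by
      have e1 : (j ^ k)⁻¹ * t = (j⁻¹ * j ^ k)⁻¹ * (j⁻¹ * t) := by group
      rw [e1]
      exact mul_mem (inv_mem hkc) hc
    obtain ⟨o, ho, hot⟩ := Lifting.exists_conj_eq (odd_card_core (pump x (L u))) (v := j ^ k)
      (v' := t) hk (m := 1) (by rw [pow_one, pow_two, htt])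
      (le_normalizer_core _ ((pump x (L u)).pow_mem hjM k)) hkc'
    refine ⟨o, core_le _ ho, j ^ k, (L u).pow_mem (cen_le _ _ hj) k, ?_, hot⟩
    have h3 : orderOf (o * j ^ k * o⁻¹) = orderOf (j ^ k) := by
      have := orderOf_injective (MulAut.conj o).toMonoidHom (MulAut.conj o).injective (j ^ k)
      simpa using this
    rw [← h3, hot, ht2]
  · obtain ⟨g, hg, hgt⟩ := hb.conj h.tgt (h.pair hu) (sq_of hx2) h1 h2 ht htt (ne_of ht2)
    exact ⟨g, hg, u, h.mem hu, (h.pair hu).inv, hgt⟩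

theorem cmp_inv (h : W1 κ τ D L) : ∀ u ∈ D, ∀ x ∈ cenMod (Ce u) (L u), orderOf x = 2 →
    ∀ t ∈ cmpF L x u, orderOf t = 2 → t ∈ D := by
  intro u hu x hx hx2 t ht ht2
  by_cases e : x = u
  · rw [e, cmpF_self] at ht
    exact h.inv_mem hu ht (sq_of ht2) (ne_of ht2)
  · rw [cmpF_of_ne L e] at ht
    obtain ⟨h1, h2⟩ := (mem_K h hu).mp hx
    obtain ⟨g, _, j, hj, hj2, rfl⟩ := exists_conj h hu hx2 h1 h2 ht ht2
    exact h.conj (h.inv_mem hu hj (sq_of hj2) (ne_of hj2)) g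

theorem cmp_cen (h : W1 κ τ D L) : ∀ u ∈ D, ∀ x ∈ cenMod (Ce u) (L u), orderOf x = 2 →
    ∀ c : G, orderOf c = 2 → Commute c u → c ∈ cenMod (Ce x) (cmpF L x u) →
    c ∈ cenMod (Ce u) (L u) := by
  intro u hu x hx hx2 c hc2 hcu hcK
  by_cases e : x = u
  · rw [e, cmpF_self] at hcK; exact hcK
  · rw [cmpF_of_ne L e] at hcK
    obtain ⟨h1, h2⟩ := (mem_K h hu).mp hx
    have hcx := cenMod_le _ _ hcK
    have hf := ((pump_comp (h.pair hu) (sq_of hx2) h1 h2).fixes_iff hcx).mpr hcK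
    exact (mem_K h hu).mpr ⟨hcu, fixes_of_pump (h.pair hu) (sq_of hx2) h1 h2 (h.norm hu hcu)
      (mem_centralizer_singleton_iff.mp hcx) hf⟩

theorem small (h : W1 κ τ D L) : ∀ u ∈ D, ∀ x ∈ cenMod (Ce u) (L u), orderOf x = 2 →
    ∀ t ∈ L u, orderOf t = 2 → t ≠ u → Commute t x → x ∉ cenMod (Ce t) (L t) →
    u ∈ cenMod (Ce x) (cmpF L x u) := by
  intro u hu x hx hx2 t ht ht2 htu htx hxt
  have htD := h.inv_mem hu ht (sq_of ht2) (ne_of ht2)
  obtain ⟨h1, h2⟩ := (mem_K h hu).mp hx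
  by_cases e : x = u
  · rw [e, cmpF_self]
    exact (mem_K h hu).mpr ⟨rfl, h.fixes_self hu⟩
  · rw [cmpF_of_ne L e]
    rcases h.small_or_big hu (sq_of hx2) (ne_of hx2) h1 h2 with hs | hb
    · exact ((pump_comp (h.pair hu) (sq_of hx2) h1 h2).fixes_iff
        (mem_centralizer_singleton_iff.mpr h1.symm)).mp (hs.fixes (h.pair hu) h1)
    · exfalso
      apply hxt
      have hxt' : x * t = t * x := htx.symm
      exact (mem_K h htD).mpr ⟨hxt', (h.isBig_iff hu (sq_of hx2) (ne_of hx2) h1 h2 ht (sq_of ht2)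
        (ne_of ht2) htu hxt').mp hb⟩

/-- the field `big` from (5.5) -/
theorem big (h : W1 κ τ D L) (h52 : FxOr D L) :
    ∀ u ∈ D, ∀ s ∈ D, u ≠ s → s ∈ cenMod (Ce u) (L u) → ∀ t ∈ cmpF L s u, orderOf t = 2 →
      ∃ g ∈ cmpF L s u, g * u * g⁻¹ = t := by
  intro u hu s hs hne hsK t ht ht2
  obtain ⟨h1, h2⟩ := (mem_K h hu).mp hsK
  rw [cmpF_of_ne L hne.symm] at ht ⊢
  exact (isBig_of_zero h h52 hu hs hne.symm h1 h2).conj h.tgt (h.pair hu) (h.sq hs) h1 h2 ht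
    (sq_of ht2) (ne_of ht2)

theorem exists_inv (h : W1 κ τ D L) : ∀ u ∈ D, ∀ V : Subgroup G, IsPGroup 2 V →
    V ≤ cenMod (Ce u) (L u) → ∃ t ∈ L u, orderOf t = 2 ∧ t ≠ u ∧ ∀ v ∈ V, Commute t v := by
  intro u hu V hV hle
  obtain ⟨t, ht, h1, h2, h3, h4⟩ := h.exists_inv_comm hu hV
    (fun a ha => ((mem_K h hu).mp (hle ha)).2)
  exact ⟨t, ht, order_two h1 h2, h3, fun v hv => (h4 v hv).symm⟩

theorem diag (h : W1 κ τ D L) : ∀ b : G, orderOf b = 2 → ∀ v ∈ D, b * v * b⁻¹ ≠ v →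
    b * v * b⁻¹ ∈ cenMod (Ce v) (L v) → ∃ N, TC (Ce b) N ∧ v * (b * v * b⁻¹) ∈ N := by
  intro b hbo v hv hne hmem
  have hbb : b * b = 1 := sq_of hbo
  have hbi : b⁻¹ = b := inv_eq_of_mul_eq_one_left hbb
  obtain ⟨w, hw⟩ : ∃ w, w = b * v * b⁻¹ := ⟨_, rfl⟩
  rw [← hw] at hne hmem ⊢
  have hwD : w ∈ D := hw ▸ h.conj hv b
  obtain ⟨hwv, hfw⟩ := (mem_K h hv).mp hmem
  have hv2 := h.sq hv
  have hw2 := h.sq hwD
  obtain ⟨c, hc⟩ : ∃ c, c = v * w := ⟨_, rfl⟩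
  rw [← hc]
  have hcv : c * v = v * c := by rw [hc, mul_assoc, hwv]
  have hcc : c * c = 1 := by rw [hc]; exact mul_sq hv2 hw2 hwv.symm
  have hc1 : c ≠ 1 := by rw [hc]; exact mul_ne_one hw2 (Ne.symm hne)
  have hbwb : b * w * b⁻¹ = v := by
    rw [hw, hbi]
    calc b * (b * v * b) * b = (b * b) * v * (b * b) := by group
      _ = v := by rw [hbb, one_mul, mul_one]
  have hbc : b * c * b⁻¹ = c := by
    have : b * c * b⁻¹ = (b * v * b⁻¹) * (b * w * b⁻¹) := by rw [hc]; group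
    rw [this, hbwb, ← hw, hwv, hc]
  have hbc' : b * c = c * b := by
    calc b * c = b * c * b⁻¹ * b := by group
      _ = c * b := by rw [hbc]
  have hfv : Fixes v (L v) := h.fixes_self hv
  have hfc : Fixes c (L v) := hc ▸ fixes_mul hfv hfw
  have hpv := h.pair hv
  have hM := pump_comp hpv hcc hcv hfc
  have hvM := mem_pump hpv hcc hcv hfc
  have hbC : b ∈ centralizer ({c} : Set G) := mem_centralizer_singleton_iff.mpr hbc'
  have hwM : w ∈ cj b (pump c (L v)) := by rw [hw]; exact conj_mem_cj hvM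
  have hcv1 : c ≠ v := by
    intro h1
    rw [hc] at h1
    exact h.ne_one hwD (mul_eq_left.mp h1)
  have hmove : cj b (pump c (L v)) ≠ pump c (L v) := by
    intro h1
    rw [h1] at hwM
    have hcM : c ∈ pump c (L v) := by
      have := mul_mem hvM hwM
      rwa [← hc] at this
    have hcent : ∀ y ∈ pump c (L v), y * c = c * y := fun y hy =>
      mem_centralizer_singleton_iff.mp (hM.le hy)
    rcases h.small_or_big hv hcc hc1 hcv hfc with hs | hb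
    · have h2 : c ∈ cen (L v) c := mem_of_comm_two (m := 8) (Or.inl hs)
        (isComp_cen_inf hpv hcc hcv hfc) hcM hcv (n := 1) (by rw [pow_one, pow_two, hcc])
      exact hcv1 (h.eq_of_fixes hv (cen_le _ _ h2) hcc hc1 hfc)
    · obtain ⟨g, hg, hgc⟩ := hb.conj h.tgt hpv hcc hcv hfc hcM hcc hc1
      apply hcv1
      have h3 := hcent g hg
      calc c = g⁻¹ * (g * c) := by group
        _ = g⁻¹ * (c * g) := by rw [h3]
        _ = v := by rw [← hgc]; group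
  obtain ⟨hN, -, -, -, -⟩ := exists_diag hM hbC hbb hmove
  have hcN : c ∈ Diag.diag (centralizer ({c} : Set G)) (pump c (L v)) b :=
    mem_diag (mem_centralizer_singleton_iff.mpr rfl) hbc'.symm hvM
      (by rw [← hw, ← hc, inv_mul_cancel]; exact one_mem _) (n := 1)
      (by rw [pow_one, pow_two]; exact hcc)
  rw [inf_comm] at hN
  obtain ⟨R, hR, hNR⟩ := exists_pumpup hcc hcN hN
  exact ⟨R, hR.tc, hNR hcN⟩

/-- the K-fact for `sylow`: an automorphism trivial on a Sylow 2-subgroup is trivial -/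
def Syl (κ : Kind.{v}) : Prop :=
  ∀ (K : Type v) [Group K] [Finite K], κ.P K → ∀ (Q : Sylow 2 K) (β : MulAut K),
    (∀ q ∈ Q, β q = q) → β = 1

theorem sylow (hSyl : Syl κ) (h : W1 κ τ D L) : ∀ u ∈ D, ∀ t ∈ D, Commute t u →
    t ∉ cenMod (Ce u) (L u) → ∀ P : Subgroup G, IsMaxP 2 (L u) P → ∃ p ∈ P, ¬ Commute p t := by
  intro u hu t ht htu htK P hP
  by_contra hcon
  push Not at hcon
  apply htK
  have hp2 : Fact (Nat.Prime 2) := ⟨Nat.prime_two⟩
  have htn : t ∈ normalizer (L u : Set G) := h.norm hu htu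
  obtain ⟨β, hβ⟩ := exists_aut htn
  -- the image of `P` is a Sylow subgroup
  have hsurj : Function.Surjective (QuotientGroup.mk' (oddCore ↥(L u))) := QuotientGroup.mk'_surjective _
  have hβ1 : β = 1 := by
    refine hSyl _ (h.pair hu).kind ((hP.toSylow).mapSurjective hsurj) β ?_
    rintro q hq
    obtain ⟨⟨p, hpL⟩, hpP, rfl⟩ := hq
    have hpP' : p ∈ P := hpP
    change β (QuotientGroup.mk ⟨p, hpL⟩) = QuotientGroup.mk ⟨p, hpL⟩
    rw [hβ p hpL]
    congr 1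
    apply Subtype.ext
    show t * p * t⁻¹ = p
    rw [← (hcon p hpP').eq, mul_inv_cancel_right]
  refine (mem_K h hu).mpr ⟨htu.eq, ?_⟩
  rw [fixes_iff_conj]
  refine ⟨htn, fun x hx => ?_⟩
  have h2 := hβ x hx
  rw [hβ1] at h2
  exact (mk_eq_mk_iff' hx ((mem_normalizer_iff.mp htn x).mp hx)).1 h2

end Cfsg.Agent.UGT.I34.WOneC.OfWOne
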