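import Cfsg.Agent.UGT.I34.WOneC.Conn

/-!
Products of independent sets in a Sylow 2-subgroup; uniqueness of the block system (5b.5 in a `FrameC`).
-/

set_option autoImplicit false
set_option linter.unusedSectionVars false

namespace Cfsg.Agent.UGT.I34.WOneC

open Subgroup Cfsg
open Cfsg.Agent.SignalizersComponents
open Cfsg.Agent.SignalizersComponents.PLayerAut
open Cfsg.Agent.SignalizersComponents.IntrinsicBasic
open Cfsg.Agent.SignalizersComponents.RelSylow
open Cfsg.Agent.Intrinsic.WOneA (Ce OC mem_Ce mul_self_of_order ne_one_of_order order_two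
  inv_eq_of_order pow_of_order orderOf_cj conj_eq_of_commute commute_of_conj_eq normalizes dihedral
  lcj mem_lcj length_lcj prod_lcj commute_prod lset isMaxP_of_card IsMaxP.card_le card_cj
  IsMaxP.inf_of_normalizes mem_sup_of_normalizes exists_commuting_conj)

namespace FrameC

variable {G : Type*} [Group G] [Finite G] {F : FrameC G} {T : Subgroup G} {V : List G}

/-- multiplying an independent set in `T` by an element of `D ∩ T` -/
theorem Block.step (hB : Block F T V) {J : List G} (hJ : F.Ind J) (hJT : ∀ j ∈ J, j ∈ T)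
    {w : G} (hw : w ∈ F.D) (hwT : w ∈ T) (hc : ∀ j ∈ J, Commute j w) :
    ∃ J', F.Ind J' ∧ (∀ j ∈ J', j ∈ T) ∧ J'.prod = J.prod * w ∧
      ∀ c : G, (∀ j ∈ J, Commute c j) → Commute c w → ∀ j ∈ J', Commute c j := by
  have hw2 := F.ord w hw
  obtain ⟨v, hv, hwv⟩ := hB.cov w hw hwT
  by_cases hA : ∃ j ∈ J, F.A v j
  · obtain ⟨j₀, hj₀, hj₀v⟩ := hA
    have hj₀D := hJ.mem j₀ hj₀
    have hj₀2 := F.ord j₀ hj₀D
    have hj₀T := hJT j₀ hj₀
    obtain ⟨J', hJ', hperm, hprod⟩ := hJ.erase hj₀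
    obtain ⟨_, hzJ', hJ'i⟩ := hJ'.of_cons
    have hJ'J : ∀ j ∈ J', j ∈ J := fun j hj => hperm.mem_iff.mpr (List.mem_cons_of_mem _ hj)
    have hcw : Commute w J'.prod := commute_prod fun j hj => (hc j (hJ'J j hj)).symm
    have hcj : Commute j₀ J'.prod := commute_prod fun j hj => (hzJ' j hj).comm
    by_cases e : w = j₀
    · refine ⟨J', hJ'i, fun j hj => hJT j (hJ'J j hj), ?_, fun c h1 _ j hj => h1 j (hJ'J j hj)⟩
      rw [hprod, e, hcj.eq, mul_assoc, mul_self_of_order hj₀2, mul_one]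
    · have hwA : F.A j₀ w := hB.same hv hj₀T hj₀v hwT hwv (hc j₀ hj₀)
      have hjw2 : orderOf (j₀ * w) = 2 := hwA.orderOf_mul (Ne.symm e)
      have hjwD : j₀ * w ∈ F.D := hwA.mul_mem (Ne.symm e)
      have hjwT : j₀ * w ∈ T := T.mul_mem hj₀T hwT
      -- `j₀ w` is in the block of `v`
      have hjwv : F.A v (j₀ * w) := by
        obtain ⟨s, hs, hsv⟩ := hB.exists_other v
        have hz := hB.ind.z hv hs (Ne.symm hsv)
        have h3 := (hj₀v.zz hB.pg hj₀T (hB.mem s hs) hz).2.2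
        have h4 := (hwv.zz hB.pg hwT (hB.mem s hs) hz).2.2
        exact A.of_cmp hz.left hz.mem (F.ord s hz.right) ((F.cmp s v).mul_mem h3 h4) hjw2
          (hj₀v.comm.symm.mul_left hwv.comm.symm)
      refine ⟨(j₀ * w) :: J', hJ'i.cons hjwD ?_, ?_, ?_, ?_⟩
      · intro j hj
        have hjD := hJ.mem j (hJ'J j hj)
        have hjT := hJT j (hJ'J j hj)
        obtain ⟨q, hq, hjq⟩ := hB.cov j hjD hjT
        have hqv : v ≠ q := by
          rintro rfl
          exact (hB.same hv hj₀T hj₀v hjT hjq (hzJ' j hj).comm).nz (hzJ' j hj)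
        exact hB.diff hv hq hqv hjwT hjwv hjT hjq
      · intro j hj
        rcases List.mem_cons.mp hj with rfl | hj
        · exact hjwT
        · exact hJT j (hJ'J j hj)
      · rw [List.prod_cons, hprod, mul_assoc, mul_assoc, hcw.eq]
      · intro c h1 h2 j hj
        rcases List.mem_cons.mp hj with rfl | hj
        · exact (h1 j₀ hj₀).mul_right h2
        · exact h1 j (hJ'J j hj)
  · push Not at hA
    have hcw : Commute w J.prod := commute_prod fun j hj => (hc j hj).symm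
    refine ⟨w :: J, hJ.cons hw ?_, ?_, ?_, ?_⟩
    · intro j hj
      have hjD := hJ.mem j hj
      have hjT := hJT j hj
      obtain ⟨q, hq, hjq⟩ := hB.cov j hjD hjT
      have hqv : v ≠ q := by
        rintro rfl
        exact hA j hj hjq
      exact hB.diff hv hq hqv hwT hwv hjT hjq
    · intro j hj
      rcases List.mem_cons.mp hj with rfl | hj
      · exact hwT
      · exact hJT j hj
    · rw [List.prod_cons, hcw.eq]
    · intro c h1 h2 j hj
      rcases List.mem_cons.mp hj with rfl | hj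
      · exact h2
      · exact h1 j hj

/-- products of two commuting independent sets in `T` -/
theorem Block.mul (hB : Block F T V) {K : List G} : ∀ {J : List G}, F.Ind J → (∀ j ∈ J, j ∈ T) →
    F.Ind K → (∀ k ∈ K, k ∈ T) → (∀ j ∈ J, ∀ k ∈ K, Commute j k) →
    ∃ J', F.Ind J' ∧ (∀ j ∈ J', j ∈ T) ∧ J'.prod = J.prod * K.prod := by
  induction K with
  | nil =>
    intro J hJ hJT _ _ _
    exact ⟨J, hJ, hJT, by rw [List.prod_nil, mul_one]⟩
  | cons w K ih =>
    intro J hJ hJT hK hKT hc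
    obtain ⟨hw, hz, hKi⟩ := hK.of_cons
    obtain ⟨J', hJ', hJ'T, hprod, hcc⟩ := hB.step hJ hJT hw (hKT w (by simp))
      fun j hj => hc j hj w (by simp)
    obtain ⟨J'', h1, h2, h3⟩ := ih hJ' hJ'T hKi (fun k hk => hKT k (by simp [hk])) (by
      intro j hj k hk
      exact (hcc k (fun i hi => (hc i hi k (by simp [hk])).symm) (hz k hk).comm.symm j hj).symm)
    exact ⟨J'', h1, h2, by rw [h3, hprod, List.prod_cons, mul_assoc]⟩

/-- the block system of `T` is unique -/
theorem Block.mem_of_block (hB : Block F T V) {V' : List G} (hB' : Block F T V') {u : G}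
    (hu : u ∈ V') : u ∈ V := by
  have huD := hB'.ind.mem u hu
  have huT := hB'.mem u hu
  obtain ⟨v, hv, huv⟩ := hB.cov u huD huT
  obtain ⟨s, hs, hsv⟩ := hB.exists_other v
  obtain ⟨h1, h2, -⟩ := huv.zz hB.pg huT (hB.mem s hs) (hB.ind.z hv hs (Ne.symm hsv))
  have h3 : v = u := hB'.eq_of_A hu huv.symm fun p hpT hpL => by
    obtain ⟨n, hn⟩ := two_pow_of_mem hB.pg hpT
    have h3 := h1.mem_cmp hpL hn (F.comm_LK hB.pg huD hpL hpT h1.mem (hB.mem s hs))
    rw [h2] at h3
    exact hB.cenB v hv s hs (Ne.symm hsv) p hpT h3 v hv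
  rw [← h3]; exact hv

theorem Block.prod_eq (hB : Block F T V) {V' : List G} (hB' : Block F T V') :
    V.prod = V'.prod := by
  have hp : V.Perm V' := (List.perm_ext_iff_of_nodup hB.ind.nodup hB'.ind.nodup).mpr fun u =>
    ⟨fun h => hB'.mem_of_block hB h, fun h => hB.mem_of_block hB' h⟩
  apply hp.prod_eq'
  exact hB.ind.pw.imp fun hz => hz.comm

/-- `T` centralizes the product of its block system -/
theorem Block.commute (hB : Block F T V) {g : G} (hg : g ∈ T) : Commute g V.prod := by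
  have h1 := hB.cj g
  have h2 : IntrinsicBasic.cj g T = T := cj_eq_self_of_mem hg
  rw [h2] at h1
  have h3 := hB.prod_eq h1
  rw [prod_lcj] at h3
  exact commute_of_conj_eq h3.symm

theorem Block.ne_nil (hB : Block F T V) : V ≠ [] := by
  intro h
  have := hB.two
  rw [h] at this
  simp at this

theorem Block.commD (hB : Block F T V) {w v : G} (hw : w ∈ F.D) (hwT : w ∈ T) (hv : v ∈ V) :
    Commute w v := by
  obtain ⟨v', hv', hwv'⟩ := hB.cov w hw hwT
  exact hB.commA hv' hwT hwv' hv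

theorem Block.prod_mem (hB : Block F T V) : V.prod ∈ T := list_prod_mem hB.mem

/-- a conjugate `b ∈ T` of `x = ∏ V` is the product of a conjugate of `V` in `T` -/
theorem Block.exists_conj {T : Sylow 2 G} (hB : Block F (T : Subgroup G) V) {h : G}
    (hb : h * V.prod * h⁻¹ ∈ (T : Subgroup G)) : ∃ c ∈ Ce (h * V.prod * h⁻¹),
    ∀ v ∈ V, (c * h) * v * (c * h)⁻¹ ∈ (T : Subgroup G) := by
  have h2 : Fact (Nat.Prime 2) := ⟨Nat.prime_two⟩
  obtain ⟨b, hbe⟩ : ∃ b, b = h * V.prod * h⁻¹ := ⟨_, rfl⟩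
  rw [← hbe] at hb ⊢
  have hJ : F.Ind (lcj h V) := hB.ind.cj h
  have hJp : (lcj h V).prod = b := by rw [prod_lcj, hbe]
  have hb2 : orderOf b = 2 := by
    rw [hbe, orderOf_cj]; exact hB.ind.orderOf_prod hB.ne_nil
  have hWC : closure (lset (lcj h V)) ≤ Ce b := by
    rw [closure_le]
    intro j hj
    rw [SetLike.mem_coe, mem_Ce, ← hJp]
    exact hJ.commute_prod hj
  obtain ⟨Q, hQ, hTQ⟩ := exists_isMaxP (p := 2) (C := Ce b) (W := (T : Subgroup G) ⊓ Ce b)
    (T.2.to_le inf_le_left) inf_le_right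
  obtain ⟨c, hc, hcQ⟩ := hQ.exists_conj_le hJ.closure_pgroup hWC
  obtain ⟨T', hQT'⟩ := hQ.1.exists_le_sylow
  obtain ⟨v₀, V₀, hV₀⟩ := List.exists_cons_of_ne_nil hB.ne_nil
  obtain ⟨s, hs, hsv⟩ := hB.exists_other v₀
  have hz : F.Z v₀ s := hB.ind.z (by rw [hV₀]; simp) hs (Ne.symm hsv)
  obtain ⟨V', hB'⟩ := exists_block_of_sylow hz T'
  have hcb : Commute c b := mem_Ce.mp hc
  have hfus : Fus F (T : Subgroup G) (T' : Subgroup G) b (lcj c (lcj h V)) := by
    refine ⟨T'.2, hb, hb2, hJ.cj c, ?_, ?_, ?_⟩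
    · rw [prod_lcj, hJp, conj_eq_of_commute hcb]
    · intro x hx
      obtain ⟨j, hj, rfl⟩ := mem_lcj.mp hx
      exact hQT' (hcQ ⟨j, subset_closure hj, rfl⟩)
    · intro x hx hxb
      exact hQT' (hTQ ⟨hx, mem_Ce.mpr hxb⟩)
  refine ⟨c, hc, fun v hv => ?_⟩
  have h3 := hfus.mem hB hB' (c * (h * v * h⁻¹) * c⁻¹)
    (mem_lcj.mpr ⟨_, mem_lcj.mpr ⟨v, hv, rfl⟩, rfl⟩)
  have e : c * h * v * (c * h)⁻¹ = c * (h * v * h⁻¹) * c⁻¹ := by group
  rw [e]; exact h3

end FrameC

end Cfsg.Agent.UGT.I34.WOneC
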