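import Cfsg.Agent.UGT.I34.WOneC.Cc
import Cfsg.Agent.Intrinsic.BigBal

/-!
# I34 [A], world W1: facts on the targets lifted to the big pump-ups

`TgtA κ`: in a target `(X, z, L)`: `O(L) = 1`; an automorphism of odd order trivial on `L` is trivial; an
involution commuting with `z` and centralizing `L` is `z`; no strongly embedded subgroups.

* `ofCmp : TgtA κ → OfCmp D L`;
* `bal` : `O(C(u)) ∩ C(s) ≤ O(C(s))` for a big `s`.
-/

set_option autoImplicit false

open Cfsg Subgroup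
open Cfsg.Agent.SignalizersComponents Cfsg.Agent.Lib
open Cfsg.Agent.SignalizersComponents.IntrinsicBasic
open Cfsg.Agent.SignalizersComponents.PLayerAut
open Cfsg.Agent.Intrinsic
open Cfsg.Agent.Intrinsic.Basic hiding IsPair PQS Target IsPair.sq IsPair.ne_one IsPair.cj
open Cfsg.Agent.Intrinsic.Cen hiding pair_comm pair_mem_cen exists_pump pump_unique
open Cfsg.Agent.Intrinsic.Quot hiding Big isPair_quot small_or_big
open Cfsg.Agent.UGT.I34.Pair Cfsg.Agent.UGT.I34.KF Cfsg.Agent.UGT.I34.WOne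
open Cfsg.Agent.McLLyComp.Act (fixes_mul)

namespace Cfsg.Agent.UGT.I34.WOneC.Tg

open Cfsg.Agent.UGT.I34.WOneC.Five Cfsg.Agent.UGT.I34.WOneC.Cc

universe v

/-- Facts on the targets. -/
structure TgtA (κ : Kind.{v}) : Prop where
  tgt : Tgt κ
  core : ∀ (X : Type v) [Group X] [Finite X] (z : X) (L : Subgroup X), κ.T X z L → IsPair κ z L →
    Basic.core L = ⊥
  odd_aut : ∀ (X : Type v) [Group X] [Finite X] (z : X) (L : Subgroup X), κ.T X z L → IsPair κ z L →
    ∀ β : MulAut X, Odd (orderOf β) → (∀ l ∈ L, β l = l) → β = 1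
  cent_L : ∀ (X : Type v) [Group X] [Finite X] (z : X) (L : Subgroup X), κ.T X z L → IsPair κ z L →
    ∀ c : X, c * z = z * c → c * c = 1 → c ≠ 1 → (∀ l ∈ L, c * l = l * c) → c = z
  no_se : ∀ (X : Type v) [Group X] [Finite X] (z : X) (L : Subgroup X), κ.T X z L → IsPair κ z L →
    ∀ H : Subgroup X, ¬ IsStronglyEmbedded H

variable {G : Type v} [Group G] [Finite G] {κ : Kind.{v}}

/-- the core of `J` is in the core of the big `M` -/
theorem core_le_of (hA : TgtA κ) {u : G} {J M : Subgroup G} (hB : Big κ u J M) (hu : u * u = 1)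
    (hu1 : u ≠ 1) (huJ : u ∈ J) (hJ : IsComp (M ⊓ centralizer ({u} : Set G)) J)
    (hk : κ.P (↥J ⧸ oddCore ↥J)) : Basic.core J ≤ Basic.core M := by
  obtain ⟨huM, hT⟩ := hB
  have hJM : J ≤ M := hJ.le.trans inf_le_left
  have h1 := hA.core _ _ _ hT (isPair_quot hu hu1 huJ huM hJ hk)
  obtain ⟨C, hC⟩ : ∃ C : Subgroup (↥M ⧸ oddCore ↥M), C = qs M (Basic.core J) := ⟨_, rfl⟩
  have hmk : ∀ x (hx : x ∈ Basic.core J), (QuotientGroup.mk ⟨x, hJM (Basic.core_le J hx)⟩ : ↥M ⧸ oddCore ↥M) ∈ C := by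
    intro x hx
    rw [hC]
    exact ⟨⟨x, hJM (Basic.core_le J hx)⟩, hx, rfl⟩
  have hle : C ≤ Basic.core (qs M J) := by
    refine le_core ?_ ?_ ?_
    · rw [hC]
      exact Subgroup.map_mono (subgroupOf_mono M (Basic.core_le J))
    · rintro _ ⟨⟨j, hjM⟩, hj, rfl⟩
      rw [mem_normalizer_iff_cj, hC]
      have hj' : j ∈ J := hj
      have hsub : ∀ j (hjM : j ∈ M), j ∈ J →
          cj (QuotientGroup.mk' (oddCore ↥M) ⟨j, hjM⟩) (qs M (Basic.core J)) ≤ qs M (Basic.core J) := by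
        rintro j hjM hj _ ⟨_, ⟨⟨x, hxM⟩, hx, rfl⟩, rfl⟩
        exact ⟨⟨j * x * j⁻¹, M.mul_mem (M.mul_mem hjM hxM) (M.inv_mem hjM)⟩,
          conj_mem_core (le_normalizer hj) hx, rfl⟩
      refine le_antisymm (hsub j hjM hj') ?_
      have h3 := cj_mono (g := QuotientGroup.mk' (oddCore ↥M) ⟨j, hjM⟩)
        (hsub j⁻¹ (M.inv_mem hjM) (J.inv_mem hj'))
      have e : QuotientGroup.mk' (oddCore ↥M) ⟨j⁻¹, M.inv_mem hjM⟩ =
        (QuotientGroup.mk' (oddCore ↥M) ⟨j, hjM⟩)⁻¹ := rfl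
      rwa [e, cj_cj_inv] at h3
    · have h2 : Nat.card C ∣ Nat.card ((Basic.core J).subgroupOf M) := by
        rw [hC]
        exact Subgroup.card_map_dvd _ _
      rw [Nat.card_congr (subgroupOfEquivOfLe ((Basic.core_le J).trans hJM)).toEquiv] at h2
      exact Odd.of_dvd_nat (odd_card_core J) h2
  intro x hx
  have h2 := hle (hmk x hx)
  rw [h1, mem_bot, mk_eq_one_iff] at h2
  exact h2

omit [Finite G] in
/-- The automorphism of `M / O(M)` induced by `y ∈ N(M)`. -/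
theorem exists_aut {M : Subgroup G} {y : G} (hy : y ∈ normalizer (M : Set G)) :
    ∃ β : MulAut (↥M ⧸ oddCore ↥M), ∀ (x : G) (hx : x ∈ M),
      β (QuotientGroup.mk ⟨x, hx⟩) =
        QuotientGroup.mk ⟨y * x * y⁻¹, (Subgroup.mem_normalizer_iff.mp hy x).mp hx⟩ := by
  have hym : ∀ x ∈ M, y * x * y⁻¹ ∈ M := fun x hx => (Subgroup.mem_normalizer_iff.mp hy x).mp hx
  have hym' : ∀ x ∈ M, y⁻¹ * x * y ∈ M := fun x hx => by
    have := (Subgroup.mem_normalizer_iff.mp (Subgroup.inv_mem _ hy) x).mp hx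
    rwa [inv_inv] at this
  let α : ↥M ≃* ↥M :=
    { toFun := fun x => ⟨y * x * y⁻¹, hym x x.2⟩
      invFun := fun x => ⟨y⁻¹ * x * y, hym' x x.2⟩
      left_inv := fun x => Subtype.ext (by show y⁻¹ * (y * (x : G) * y⁻¹) * y = x; group)
      right_inv := fun x => Subtype.ext (by show y * (y⁻¹ * (x : G) * y) * y⁻¹ = x; group)
      map_mul' := fun a b => Subtype.ext (by
        show y * ((a : G) * b) * y⁻¹ = y * a * y⁻¹ * (y * b * y⁻¹); group) }
  have hα : (oddCore ↥M).map (α : ↥M ≃* ↥M).toMonoidHom = oddCore ↥M := Lib.Cores.map_equiv_pPrimeCore α 2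
  exact ⟨QuotientGroup.congr (oddCore ↥M) (oddCore ↥M) α hα, fun x hx => rfl⟩

/-- an element of odd order normalizing the big `M` and centralizing `J` modulo `O(M)` fixes `M` -/
theorem fixes_of_odd (hA : TgtA κ) {u : G} {J M : Subgroup G} (hB : Big κ u J M) (hu : u * u = 1)
    (hu1 : u ≠ 1) (huJ : u ∈ J) (hJ : IsComp (M ⊓ centralizer ({u} : Set G)) J)
    (hk : κ.P (↥J ⧸ oddCore ↥J)) {y : G} (hy : y ∈ normalizer (M : Set G)) (hodd : Odd (orderOf y))
    (hyJ : ∀ j ∈ J, j⁻¹ * (y * j * y⁻¹) ∈ Basic.core M) : Fixes y M := by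
  obtain ⟨huM, hT⟩ := hB
  have hp := isPair_quot hu hu1 huJ huM hJ hk
  obtain ⟨β, hβ⟩ := exists_aut hy
  have hpow : ∀ (k : ℕ) (x : G) (hx : x ∈ M), ∃ hx' : y ^ k * x * (y ^ k)⁻¹ ∈ M,
      (β ^ k) (QuotientGroup.mk ⟨x, hx⟩) = QuotientGroup.mk ⟨y ^ k * x * (y ^ k)⁻¹, hx'⟩ := by
    intro k
    induction k with
    | zero =>
      intro x hx
      have e : y ^ 0 * x * (y ^ 0)⁻¹ = x := by rw [pow_zero]; group
      refine ⟨by rw [e]; exact hx, ?_⟩
      rw [pow_zero]
      change (QuotientGroup.mk ⟨x, hx⟩ : ↥M ⧸ oddCore ↥M) = _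
      congr 1
      exact Subtype.ext e.symm
    | succ k ih =>
      intro x hx
      obtain ⟨h1, h2⟩ := ih _ ((mem_normalizer_iff.mp hy x).mp hx)
      have e : y ^ (k + 1) * x * (y ^ (k + 1))⁻¹ = y ^ k * (y * x * y⁻¹) * (y ^ k)⁻¹ := by
        rw [pow_succ]; group
      refine ⟨by rw [e]; exact h1, ?_⟩
      rw [pow_succ]
      change (β ^ k) (β (QuotientGroup.mk ⟨x, hx⟩)) = _
      rw [hβ x hx, h2]
      congr 1
      exact Subtype.ext e.symm
  have hβo : Odd (orderOf β) := by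
    have h1 : β ^ orderOf y = 1 := by
      ext x
      obtain ⟨⟨x, hx⟩, rfl⟩ := QuotientGroup.mk_surjective x
      obtain ⟨h1, h2⟩ := hpow (orderOf y) x hx
      rw [h2]
      change _ = (QuotientGroup.mk ⟨x, hx⟩ : ↥M ⧸ oddCore ↥M)
      congr 1
      apply Subtype.ext
      show y ^ orderOf y * x * (y ^ orderOf y)⁻¹ = x
      rw [pow_orderOf_eq_one, one_mul, inv_one, mul_one]
    exact Odd.of_dvd_nat hodd (orderOf_dvd_of_pow_eq_one h1)
  have h1 := hA.odd_aut _ _ _ hT hp β hβo (by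
    rintro _ ⟨⟨j, hjM⟩, hj, rfl⟩
    change β (QuotientGroup.mk ⟨j, hjM⟩) = QuotientGroup.mk ⟨j, hjM⟩
    rw [hβ j hjM]
    exact ((mk_eq_mk_iff' hjM _).2 (hyJ j hj)).symm)
  rw [fixes_iff_conj]
  refine ⟨hy, fun x hx => ?_⟩
  have h2 := hβ x hx
  rw [h1] at h2
  exact (mk_eq_mk_iff' hx ((mem_normalizer_iff.mp hy x).mp hx)).1 h2

/-- **Balance** for a pair `(u, X)` and a big `s`. -/
theorem bal (hA : TgtA κ) {u : G} {X : Subgroup G} (h : IsPair κ u X) {s : G} (hss : s * s = 1)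
    (hsu : s * u = u * s) (hf : Fixes s X) (hB : IsBig κ u X s) {x : G}
    (hx : x ∈ Basic.core (centralizer ({u} : Set G))) (hxs : x * s = s * x) :
    x ∈ Basic.core (centralizer ({s} : Set G)) := by
  have hsC : s ∈ centralizer ({u} : Set G) := mem_centralizer_singleton_iff.mpr hsu
  have hcen := isComp_cen h.comp hsC hss hf
  have hM := pump_comp h hss hsu hf
  have hle := cen_le_pump h hss hsu hf
  have huJ : u ∈ cen X s := pair_mem_cen h hsu
  have huM := mem_pump h hss hsu hf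
  have hcJ : Basic.core (cen X s) = cen X s ⊓ Basic.core X := core_cen h.comp hsC hss hf
  have hJM := isComp_cen_inf h hss hsu hf
  have hk := (kind_cen h.comp hsC hss hf).mpr h.kind
  have hcoreM := core_le_of hA hB h.sq h.ne_one huJ hJM hk
  -- the members of `Q = O(C(u)) ∩ C(s)` fix `M`
  have key : ∀ q ∈ Basic.core (centralizer ({u} : Set G)), q * s = s * q → Fixes q (pump s X) := by
    intro q hq hqs
    have hqX : Fixes q X := h.comp.fixes_of_core hq
    have hqJ : q ∈ normalizer (cen X s : Set G) := mem_normalizer_cen hqX.1 hqs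
    have hqM := mem_normalizer_pump h hss hsu hf hqX.1 hqs
    have hodd : Odd (orderOf q) := by
      have h3 : orderOf q ∣ Nat.card (Basic.core (centralizer ({u} : Set G))) :=
        Subgroup.orderOf_dvd_natCard _ hq
      exact Odd.of_dvd_nat (odd_card_core _) h3
    refine fixes_of_odd hA hB h.sq h.ne_one huJ hJM hk hqM hodd fun j hj => ?_
    apply hcoreM
    rw [hcJ]
    exact ⟨(cen X s).mul_mem ((cen X s).inv_mem hj) ((mem_normalizer_iff.mp hqJ j).mp hj),
      (fixes_iff_conj.mp hqX).2 j (cen_le X s hj)⟩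
  have hQ : Basic.core (centralizer ({u} : Set G)) ⊓ centralizer ({s} : Set G) ≤
      Basic.core (centralizer ({s} : Set G)) := by
    refine BigBal.le_core_of_cent hM huM h.sq ?_ ?_ (Odd.of_dvd_nat (odd_card_core _) (card_dvd_of_le inf_le_left))
    · rintro q ⟨hq, hqS⟩
      exact (hM.fixes_iff hqS).mp (key q hq (mem_centralizer_singleton_iff.mp hqS))
    · rintro c ⟨hcs, hcu⟩
      have e1 : c ∈ normalizer (Basic.core (centralizer ({u} : Set G)) : Set G) := le_normalizer_core _ hcu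
      have e2 : c ∈ normalizer (centralizer ({s} : Set G) : Set G) := le_normalizer hcs
      rw [mem_normalizer_iff_cj] at e1 e2 ⊢
      rw [cj_inf, e1, e2]
  exact hQ ⟨hx, mem_centralizer_singleton_iff.mpr hxs⟩

/-- the only involution of a pump-up of `L u` fixing `L u` is `u` -/
theorem ofCmp {τ : Bool} {D : Set G} {L : G → Subgroup G} (hA : TgtA κ) (h : W1 κ τ D L) :
    OfCmp D L := by
  intro u hu x hxx hx1 hxu hx hf a ha haa ha1 hau hfa
  have hp := h.pair hu
  have hM := pump_comp hp hxx hx hf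
  have hsC : x ∈ centralizer ({u} : Set G) := mem_centralizer_singleton_iff.mpr hx
  have hJM := isComp_cen_inf hp hxx hx hf
  have hax : a * x = x * a := mem_centralizer_singleton_iff.mp (hM.le ha)
  rcases h.small_or_big hu hxx hx1 hx hf with hs | hB
  · have h1 : a ∈ cen (L u) x := mem_of_comm_two (m := 8) (Or.inl hs) hJM ha hau (n := 1)
      (by rw [pow_one, pow_two, haa])
    exact h.eq_of_fixes hu (cen_le _ _ h1) haa ha1 hfa
  · have huJ : u ∈ cen (L u) x := pair_mem_cen hp hx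
    have hk := (kind_cen hp.comp hsC hxx hf).mpr hp.kind
    have hcoreM := core_le_of hA hB hp.sq hp.ne_one huJ hJM hk
    have hcJ : Basic.core (cen (L u) x) = cen (L u) x ⊓ Basic.core (L u) := core_cen hp.comp hsC hxx hf
    obtain ⟨huM, hT⟩ := id hB
    have hpq := isPair_quot hp.sq hp.ne_one huJ huM hJM hk
    have haJ : a ∈ normalizer (cen (L u) x : Set G) := mem_normalizer_cen hfa.1 hax
    have hmk1 : (QuotientGroup.mk ⟨a, ha⟩ : ↥(pump x (L u)) ⧸ oddCore ↥(pump x (L u))) ≠ 1 := by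
      rw [Ne, mk_eq_one_iff]
      exact fun h1 => ha1 (eq_one_of_mem_core_sq h1 haa)
    have hmk2 : (QuotientGroup.mk ⟨a, ha⟩ : ↥(pump x (L u)) ⧸ oddCore ↥(pump x (L u))) *
        QuotientGroup.mk ⟨a, ha⟩ = 1 := by
      change (QuotientGroup.mk ⟨a * a, (pump x (L u)).mul_mem ha ha⟩ :
        ↥(pump x (L u)) ⧸ oddCore ↥(pump x (L u))) = 1
      rw [mk_eq_one_iff, haa]
      exact one_mem _
    have h1 := hA.cent_L _ _ _ hT hpq (QuotientGroup.mk ⟨a, ha⟩) (by
      change (QuotientGroup.mk ⟨a * u, (pump x (L u)).mul_mem ha huM⟩ :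
        ↥(pump x (L u)) ⧸ oddCore ↥(pump x (L u))) = QuotientGroup.mk ⟨u * a, (pump x (L u)).mul_mem huM ha⟩
      congr 1
      exact Subtype.ext hau) hmk2 hmk1 (by
      rintro _ ⟨⟨j, hjM⟩, hj, rfl⟩
      symm
      refine (mk_comm_iff hjM ha).mpr ?_
      apply hcoreM
      rw [hcJ]
      exact ⟨(cen (L u) x).mul_mem ((cen (L u) x).inv_mem hj) ((mem_normalizer_iff.mp haJ j).mp hj),
        (fixes_iff_conj.mp hfa).2 j (cen_le (L u) x hj)⟩)
    rw [mk_eq_mk_iff'] at h1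
    exact Lifting.eq_of_commute (odd_card_core (pump x (L u))) (n := 1) (m := 1)
      (by rw [pow_one, pow_two, haa]) (by rw [pow_one, pow_two, hp.sq]) hau h1

end Cfsg.Agent.UGT.I34.WOneC.Tg
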